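import Groth.Agent.EpsLib.CoprodSect
import Groth.Prelude.Def_CGrpSh2
import Mathlib.CategoryTheory.Sites.Over
import Mathlib.CategoryTheory.Preadditive.Injective.Basic

/-! Restriction to the objects over an object preserves injective abelian sheaves. -/

set_option autoImplicit false
set_option linter.style.haveILetI false
set_option backward.isDefEq.respectTransparency false
set_option synthInstance.maxHeartbeats 400000
universe u

open CategoryTheory CategoryTheory.Limits Opposite

namespace GaBidualLib.OverInj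

open Groth.Agent.EpsLib

variable {C : Type (u + 1)} [Category.{u} C] (T : C)

/-- The maps of an object to `T`. -/
abbrev Lift (Z : C) : Type u := Z ⟶ T

variable {T} in
/-- Pulling back. -/
abbrev Lift.pull {Z Z' : C} (k : Z' ⟶ Z) (a : Lift T Z) : Lift T Z' := k ≫ a

variable (P : (Over T)ᵒᵖ ⥤ AddCommGrpCat.{u + 1})

/-- The summands. -/
noncomputable abbrev ovSummand (Z : C) (a : Lift T Z) : AddCommGrpCat.{u + 1} := P.obj (op (Over.mk a))

theorem ovι_congr {Z : C} {A : Over T} (a' a'' : Lift T Z) (h : a' = a'') (m' : Over.mk a' ⟶ A)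
    (m'' : Over.mk a'' ⟶ A) (hm : m'.left = m''.left) :
    P.map m'.op ≫ Sigma.ι (ovSummand T P Z) a' = P.map m''.op ≫ Sigma.ι (ovSummand T P Z) a'' := by
  subst h
  rw [Over.OverMorphism.ext hm]

/-- Extension by zero of presheaves along `Over.map f`. -/
noncomputable def ovFree : Cᵒᵖ ⥤ AddCommGrpCat.{u + 1} where
  obj Z := ∐ ovSummand T P Z.unop
  map {Z Z'} k := Sigma.desc fun a =>
    P.map (Over.homMk k.unop : Over.mk (Lift.pull k.unop a) ⟶ Over.mk a).op ≫ Sigma.ι (ovSummand T P Z'.unop) _
  map_id Z := Sigma.hom_ext _ _ fun a => by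
    rw [Sigma.ι_desc, Category.comp_id]
    refine (ovι_congr T P (Lift.pull (𝟙 Z).unop a) a (Category.id_comp a) _ (𝟙 _) rfl).trans ?_
    rw [op_id, P.map_id, Category.id_comp]
  map_comp {Z Z' Z''} k k' := Sigma.hom_ext _ _ fun a => by
    rw [Sigma.ι_desc, Sigma.ι_desc_assoc, Category.assoc, Sigma.ι_desc, ← Category.assoc (P.map _) (P.map _),
      ← P.map_comp, ← op_comp]
    exact ovι_congr T P _ _ (Category.assoc _ _ _) _ _ rfl

variable {P} in
/-- Functoriality. -/
noncomputable def ovFreeMap {Q : (Over T)ᵒᵖ ⥤ AddCommGrpCat.{u + 1}} (i : P ⟶ Q) : ovFree T P ⟶ ovFree T Q where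
  app Z := Limits.Sigma.map fun a => i.app (op (Over.mk a))
  naturality Z Z' k := Sigma.hom_ext _ _ fun a => by
    simp only [ovFree, Sigma.ι_desc_assoc, Category.assoc, Sigma.ι_map, Sigma.ι_map_assoc, Sigma.ι_desc]
    rw [i.naturality_assoc]

theorem mono_ovFreeMap {Q : (Over T)ᵒᵖ ⥤ AddCommGrpCat.{u + 1}} (i : P ⟶ Q) [∀ A, Mono (i.app A)] :
    Mono (ovFreeMap T i) := by
  haveI : ∀ Z, Mono ((ovFreeMap T i).app Z) := fun Z => by
    refine (AddCommGrpCat.mono_iff_injective _).2 ((injective_iff_map_eq_zero _).2 fun x hx => ?_)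
    obtain ⟨J, y, rfl⟩ := exists_finset_sum_of_isColimit _ (coproductIsCoproduct (ovSummand T P Z.unop)) x
    have h0 : ∀ a ∈ J, y a = 0 := fun a ha => by
      refine (AddCommGrpCat.mono_iff_injective (i.app (op (Over.mk a)))).1 inferInstance ?_
      have h1 := congrArg (coprodProj (ovSummand T Q Z.unop) a) hx
      rw [map_zero, map_sum, map_sum, Finset.sum_eq_single a] at h1
      · rw [map_zero]
        refine Eq.trans ?_ h1
        refine (ConcreteCategory.congr_hom (?_ : i.app (op (Over.mk a)) =
          Sigma.ι (ovSummand T P Z.unop) a ≫ (Limits.Sigma.map fun a => i.app (op (Over.mk a))) ≫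
            coprodProj (ovSummand T Q Z.unop) a) (y a))
        rw [Sigma.ι_map_assoc, ι_coprodProj_self]
        exact (Category.comp_id _).symm
      · intro b _ hb
        refine (ConcreteCategory.congr_hom (?_ : Sigma.ι (ovSummand T P Z.unop) b ≫
          (Limits.Sigma.map fun a => i.app (op (Over.mk a))) ≫ coprodProj (ovSummand T Q Z.unop) a = 0) (y b)).trans rfl
        rw [Sigma.ι_map_assoc, ι_coprodProj_ne _ hb, comp_zero]
      · exact fun h => absurd ha h
    exact Finset.sum_eq_zero fun a ha => by rw [h0 a ha, map_zero]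
  exact NatTrans.mono_of_mono_app _

variable {J : GrothendieckTopology C} [HasWeakSheafify J AddCommGrpCat.{u + 1}]
  [HasSheafify J AddCommGrpCat.{u + 1}] [HasSheafify (J.over T) AddCommGrpCat.{u + 1}]

theorem injective_over (I : Sheaf J AddCommGrpCat.{u + 1}) [Injective I] :
    Injective ((J.overPullback AddCommGrpCat.{u + 1} T).obj I) := by
  haveI : Injective I.obj := Injective.injective_of_adjoint (sheafificationAdjunction J AddCommGrpCat.{u + 1}) I
  refine ⟨fun {A B} g i _ => ?_⟩
  haveI : Mono i.hom := inferInstanceAs (Mono ((sheafToPresheaf _ AddCommGrpCat.{u + 1}).map i))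
  haveI : ∀ Z, Mono (i.hom.app Z) := fun Z => inferInstance
  haveI := mono_ovFreeMap T A.obj i.hom
  let φ : ovFree T A.obj ⟶ I.obj :=
    { app := fun Z => Sigma.desc fun a => g.hom.app (op (Over.mk a)) ≫
        I.obj.map (𝟙 Z.unop : Z.unop ⟶ (Over.mk a).left).op
      naturality := fun Z Z' k => Sigma.hom_ext _ _ fun a => by
        simp only [ovFree, Sigma.ι_desc_assoc, Sigma.ι_desc, Category.assoc]
        rw [g.hom.naturality_assoc]
        refine congrArg (g.hom.app (op (Over.mk a)) ≫ ·) ?_
        show I.obj.map _ ≫ I.obj.map _ = I.obj.map _ ≫ I.obj.map k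
        rw [← I.obj.map_comp, ← I.obj.map_comp]
        refine congrArg I.obj.map (Quiver.Hom.unop_inj ?_)
        show 𝟙 Z'.unop ≫ k.unop = k.unop ≫ 𝟙 Z.unop
        rw [Category.id_comp, Category.comp_id] }
  let l := Injective.factorThru φ (ovFreeMap T i.hom)
  let self : ∀ V : Over T, Lift T V.left := fun V => V.hom
  refine ⟨ObjectProperty.homMk
    { app := fun V => Sigma.ι (ovSummand T B.obj V.unop.left) (self V.unop) ≫ l.app (op V.unop.left)
      naturality := fun V V' k => ?_ }, ?_⟩
  · show B.obj.map k ≫ _ = (_ ≫ _) ≫ I.obj.map k.unop.left.op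
    rw [Category.assoc, ← l.naturality, ← Category.assoc (Sigma.ι _ _)]
    show _ = (_ ≫ Sigma.desc _) ≫ _
    rw [Sigma.ι_desc, ← Category.assoc (B.obj.map k)]
    refine congrArg (· ≫ l.app _) ?_
    exact ovι_congr T B.obj (self V'.unop) (Lift.pull k.unop.left (self V.unop))
      (Over.w k.unop).symm k.unop _ rfl
  · apply Sheaf.hom_ext
    ext V : 2
    show i.hom.app V ≫ Sigma.ι (ovSummand T B.obj V.unop.left) (self V.unop) ≫ l.app (op V.unop.left) = g.hom.app V
    rw [← Category.assoc, show i.hom.app V ≫ Sigma.ι (ovSummand T B.obj V.unop.left) (self V.unop) =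
      Sigma.ι (ovSummand T A.obj V.unop.left) (self V.unop) ≫ (ovFreeMap T i.hom).app (op V.unop.left) from
      (Sigma.ι_map (fun a => i.hom.app (op (Over.mk a))) (self V.unop)).symm, Category.assoc, ← NatTrans.comp_app,
      Injective.comp_factorThru]
    show Sigma.ι _ _ ≫ Sigma.desc _ = _
    rw [Sigma.ι_desc]
    refine (congrArg (g.hom.app V ≫ ·) (I.obj.map_id _)).trans (Category.comp_id _)

end GaBidualLib.OverInj
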