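import Groth.Agent.GaBidualLib.OverInj
import Mathlib.CategoryTheory.Abelian.RightDerived
import Mathlib.CategoryTheory.Sites.Over

/-!
# Exactness of the dual sequence and the double-duality map of an extension
-/

set_option autoImplicit false
set_option maxHeartbeats 800000
universe u

open CategoryTheory CategoryTheory.Limits Opposite

noncomputable section

namespace GaBidualLib

section general

universe v₁ v₂ u₁ u₂

variable {C : Type u₁} [Category.{v₁} C] [Abelian C] [HasInjectiveResolutions C] {D : Type u₂} [Category.{v₂} D]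
  [Abelian D] (Φ : C ⥤ D) [Φ.Additive] (X : C)

/-- When the first derived functor vanishes, the functor keeps some injective copresentation exact on the right. -/
theorem exists_epi_of_isZero_rightDerived_one
    (hker : ∀ {K P Q : C} (k : K ⟶ P) (d : P ⟶ Q) (w : k ≫ d = 0) [Mono k], (ShortComplex.mk k d w).Exact →
      ∀ w' : Φ.map k ≫ Φ.map d = 0, (ShortComplex.mk (Φ.map k) (Φ.map d) w').Exact)
    (hmono : ∀ {K P : C} (k : K ⟶ P) [Mono k], Mono (Φ.map k))
    (h : IsZero ((Φ.rightDerived 1).obj X)) :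
    ∃ (I K : C) (i : X ⟶ I) (g : I ⟶ K) (w : i ≫ g = 0), Injective I ∧ (ShortComplex.mk i g w).ShortExact ∧
      Epi (Φ.map g) := by
  let I := injectiveResolution X
  let d₀ := I.cocomplex.d 0 1
  let d₁ := I.cocomplex.d 1 2
  let p := kernel.lift d₁ d₀ (I.cocomplex.d_comp_d 0 1 2)
  have h1 : (ShortComplex.mk d₀ d₁ (I.cocomplex.d_comp_d 0 1 2)).Exact := I.exact_succ 0
  haveI : Epi p := (ShortComplex.exact_iff_epi_kernel_lift (ShortComplex.mk d₀ d₁ _)).1 h1
  have hpk : p ≫ kernel.ι d₁ = d₀ := kernel.lift_ι _ _ _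
  have hwp : I.ι.f 0 ≫ p = 0 := by
    refine (cancel_mono (kernel.ι d₁)).1 ?_
    rw [Category.assoc, hpk, zero_comp]
    exact I.ι_f_zero_comp_complex_d
  have h0 : (ShortComplex.mk (I.ι.f 0) d₀ I.ι_f_zero_comp_complex_d).Exact := I.exact₀
  have hses : (ShortComplex.mk (I.ι.f 0) p hwp).ShortExact :=
    { exact := by
        let φ : ShortComplex.mk (I.ι.f 0) p hwp ⟶ ShortComplex.mk (I.ι.f 0) d₀ I.ι_f_zero_comp_complex_d :=
          { τ₁ := 𝟙 _, τ₂ := 𝟙 _, τ₃ := kernel.ι d₁
            comm₁₂ := (Category.id_comp _).trans (Category.comp_id _).symm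
            comm₂₃ := (Category.id_comp _).trans hpk.symm }
        exact (ShortComplex.exact_iff_of_epi_of_isIso_of_mono φ).2 h0 }
  refine ⟨_, _, I.ι.f 0, p, hwp, I.injective 0, hses, ?_⟩
  let T := ShortComplex.mk (Φ.map d₀) (Φ.map d₁) (by rw [← Φ.map_comp, I.cocomplex.d_comp_d, Φ.map_zero])
  have hT : T.Exact := by
    have h2 := h.of_iso (I.isoRightDerivedObj Φ 1).symm
    have h3 := (HomologicalComplex.exactAt_iff_isZero_homology _ _).2 h2
    rwa [HomologicalComplex.exactAt_iff' _ 0 1 2 (CochainComplex.prev_nat_succ 0) (CochainComplex.next ℕ 1)] at h3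
  haveI := (ShortComplex.exact_iff_epi_kernel_lift T).1 hT
  have hw : Φ.map (kernel.ι d₁) ≫ Φ.map d₁ = 0 := by rw [← Φ.map_comp, kernel.condition, Φ.map_zero]
  have hk : (ShortComplex.mk (kernel.ι d₁) d₁ (kernel.condition d₁)).Exact :=
    ShortComplex.exact_of_f_is_kernel _ (kernelIsKernel d₁)
  haveI := hmono (kernel.ι d₁)
  haveI : Epi (kernel.lift (Φ.map d₁) (Φ.map (kernel.ι d₁)) hw) :=
    (ShortComplex.exact_iff_epi_kernel_lift (ShortComplex.mk _ _ hw)).1 (hker _ _ _ hk hw)
  haveI : Mono (kernel.lift (Φ.map d₁) (Φ.map (kernel.ι d₁)) hw) :=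
    mono_of_mono_fac (kernel.lift_ι _ _ _)
  haveI : IsIso (kernel.lift (Φ.map d₁) (Φ.map (kernel.ι d₁)) hw) := isIso_of_mono_of_epi _
  have he : Φ.map p = kernel.lift T.g T.f T.zero ≫ inv (kernel.lift (Φ.map d₁) (Φ.map (kernel.ι d₁)) hw) := by
    rw [IsIso.eq_comp_inv]
    refine (cancel_mono (kernel.ι (Φ.map d₁))).1 ?_
    rw [Category.assoc, kernel.lift_ι, ← Φ.map_comp, hpk]
    exact (kernel.lift_ι _ _ _).symm
  rw [he]
  exact epi_comp _ _

end general

variable {C : Type (u + 1)} [Category.{u} C] (J : GrothendieckTopology C)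

/-- The Hom sheaf out of the sheaf, applied to the first variable. -/
abbrev dualMap {F F' : (Sheaf J AddCommGrpCat.{u + 1})} (M : (Sheaf J AddCommGrpCat.{u + 1})) (f : F' ⟶ F) : HomSh.homSh J F M ⟶ HomSh.homSh J F' M :=
  HomSh.homShMap J f (𝟙 M)

theorem dualMap_app {F F' : (Sheaf J AddCommGrpCat.{u + 1})} (M : (Sheaf J AddCommGrpCat.{u + 1})) (f : F' ⟶ F) (U : C) (φ : F.over U ⟶ M.over U) :
    (dualMap J M f).hom.app (op U) φ = (J.overPullback AddCommGrpCat.{u + 1} U).map f ≫ φ :=
  congrArg ((J.overPullback AddCommGrpCat.{u + 1} U).map f ≫ ·) (Category.comp_id φ)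

/-- The double-duality map is natural. -/
theorem bidualMap_naturality {F F' : (Sheaf J AddCommGrpCat.{u + 1})} (M : (Sheaf J AddCommGrpCat.{u + 1})) (f : F ⟶ F') :
    HomSh.bidualMap J F M ≫ dualMap J M (dualMap J M f) = f ≫ HomSh.bidualMap J F' M := by
  refine Sheaf.hom_ext (NatTrans.ext (funext fun U => AddCommGrpCat.ext fun s =>
    Sheaf.hom_ext (NatTrans.ext (funext fun W => AddCommGrpCat.ext fun (φ : F'.over W.unop.left ⟶ M.over W.unop.left) => ?_))))
  show HomSh.ev J ((J.overPullback AddCommGrpCat.{u + 1} W.unop.left).map f ≫ φ ≫ 𝟙 _) (F.obj.map W.unop.hom.op s) =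
    HomSh.ev J φ (F'.obj.map W.unop.hom.op (f.hom.app U s))
  rw [Category.comp_id, ← NatTrans.naturality_apply f.hom W.unop.hom.op s]
  rfl

variable [HasSheafify J AddCommGrpCat.{u + 1}] [∀ U : C, HasSheafify (J.over U) AddCommGrpCat.{u + 1}]

/-- A criterion for exactness on sections. -/
theorem exact_of_app {A B E : (Sheaf J AddCommGrpCat.{u + 1})} (f : A ⟶ B) (g : B ⟶ E) (w : f ≫ g = 0) [Mono f]
    (h : ∀ (U : Cᵒᵖ) (x : B.obj.obj U), g.hom.app U x = 0 → ∃ y, f.hom.app U y = x) :
    (ShortComplex.mk f g w).Exact := by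
  haveI : Mono f.hom := (sheafToPresheaf _ _).map_mono f
  have hinj : ∀ U, Function.Injective (f.hom.app U) := fun U => (AddCommGrpCat.mono_iff_injective _).1 inferInstance
  refine ShortComplex.exact_of_f_is_kernel _ (KernelFork.IsLimit.ofι' _ _ fun {Z} m hm => ?_)
  have hex : ∀ (U : Cᵒᵖ) (x : Z.obj.obj U), ∃ y, f.hom.app U y = m.hom.app U x := fun U x =>
    h U _ (congrArg (fun j : Z ⟶ E => j.hom.app U x) hm)
  choose y hy using hex
  have hadd : ∀ (U : Cᵒᵖ) (x x' : Z.obj.obj U), y U (x + x') = y U x + y U x' := fun U x x' => hinj U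
    (((hy U (x + x')).trans (map_add (m.hom.app U).hom x x')).trans
      ((congrArg₂ (· + ·) (hy U x) (hy U x')).symm.trans (map_add (f.hom.app U).hom _ _).symm))
  refine ⟨⟨{ app := fun U => AddCommGrpCat.ofHom (AddMonoidHom.mk' (fun x => y U x) (hadd U))
             naturality := fun U U' m' => AddCommGrpCat.ext fun x => hinj U' ?_ }⟩, ?_⟩
  · refine (hy U' (Z.obj.map m' x)).trans ?_
    refine (NatTrans.naturality_apply m.hom m' x).trans ?_
    refine Eq.trans ?_ (NatTrans.naturality_apply f.hom m' (y U x)).symm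
    exact congrArg (B.obj.map m') (hy U x).symm
  · exact Sheaf.hom_ext (NatTrans.ext (funext fun U => AddCommGrpCat.ext fun x => hy U x))

theorem preservesFinite_overPullback (U : C) :
    PreservesFiniteLimits (J.overPullback AddCommGrpCat.{u + 1} U) ∧
      PreservesFiniteColimits (J.overPullback AddCommGrpCat.{u + 1} U) := by
  let a := (Over.forget U).sheafAdjunctionCocontinuous AddCommGrpCat.{u + 1} (J.over U) J
  let b := (Over.forget U).sheafAdjunctionContinuous AddCommGrpCat.{u + 1} (J.over U) J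
  haveI : PreservesColimitsOfSize.{0, 0} (J.overPullback AddCommGrpCat.{u + 1} U) := a.leftAdjoint_preservesColimits
  haveI : PreservesLimitsOfSize.{0, 0} (J.overPullback AddCommGrpCat.{u + 1} U) := b.rightAdjoint_preservesLimits
  haveI : PreservesFiniteLimits (J.overPullback AddCommGrpCat.{u + 1} U) :=
    PreservesLimitsOfSize.preservesFiniteLimits _
  haveI : PreservesFiniteColimits (J.overPullback AddCommGrpCat.{u + 1} U) :=
    PreservesColimitsOfSize.preservesFiniteColimits _
  exact ⟨inferInstance, inferInstance⟩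

/-- A short exact sequence restricted to the objects over an object. -/
theorem shortExact_over {S : ShortComplex (Sheaf J AddCommGrpCat.{u + 1})} (hS : S.ShortExact) (U : C) :
    (S.map (J.overPullback AddCommGrpCat.{u + 1} U)).ShortExact := by
  haveI := (preservesFinite_overPullback J U).1
  haveI := (preservesFinite_overPullback J U).2
  exact hS.map_of_exact _

variable (M : (Sheaf J AddCommGrpCat.{u + 1})) {S : ShortComplex (Sheaf J AddCommGrpCat.{u + 1})} (hS : S.ShortExact)

theorem dualMap_comp_zero : dualMap J M S.g ≫ dualMap J M S.f = 0 := by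
  rw [← HomSh.homShMap_comp, S.zero]
  exact ((HomSh.homShBi J).flip.obj M).map_zero (op S.X₃) (op S.X₁)

include hS

theorem mono_dualMap : Mono (dualMap J M S.g) := by
  refine (sheafToPresheaf _ _).mono_of_mono_map ?_
  refine (NatTrans.mono_iff_mono_app _).2 fun U => (AddCommGrpCat.mono_iff_injective _).2 fun φ φ' h => ?_
  haveI := (shortExact_over J hS U.unop).epi_g
  have h' : (J.overPullback AddCommGrpCat.{u + 1} U.unop).map S.g ≫ φ = (J.overPullback AddCommGrpCat.{u + 1} U.unop).map S.g ≫ φ' :=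
    (dualMap_app J M S.g U.unop φ).symm.trans (h.trans (dualMap_app J M S.g U.unop φ'))
  exact (cancel_epi ((S.map (J.overPullback AddCommGrpCat.{u + 1} U.unop)).g)).1 h'

/-- The dual of a short exact sequence is exact in the middle. -/
theorem exact_dualMap :
    (ShortComplex.mk (dualMap J M S.g) (dualMap J M S.f) (dualMap_comp_zero J M)).Exact := by
  haveI := mono_dualMap J M hS
  refine exact_of_app J _ _ _ fun U φ h => ?_
  have h' := shortExact_over J hS U.unop
  haveI := h'.epi_g
  have h2 : (J.overPullback AddCommGrpCat.{u + 1} U.unop).map S.f ≫ φ = 0 := (dualMap_app J M S.f U.unop φ).symm.trans h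
  refine ⟨h'.exact.desc φ h2, ?_⟩
  exact (dualMap_app J M S.g U.unop _).trans (h'.exact.g_desc φ h2)

variable [HasInjectiveResolutions (Sheaf J AddCommGrpCat.{u + 1})]

/-- The dual sequence is short exact when the Ext sheaf of the quotient vanishes. -/
theorem epi_dualMap
    (hker : ∀ {K P Q : (Sheaf J AddCommGrpCat.{u + 1})} (k : K ⟶ P) (d : P ⟶ Q) (w : k ≫ d = 0) [Mono k], (ShortComplex.mk k d w).Exact →
      ∀ w' : (HomSh.homShFunctor J S.X₃).map k ≫ (HomSh.homShFunctor J S.X₃).map d = 0,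
        (ShortComplex.mk ((HomSh.homShFunctor J S.X₃).map k) ((HomSh.homShFunctor J S.X₃).map d) w').Exact)
    (hmono : ∀ {K P : (Sheaf J AddCommGrpCat.{u + 1})} (k : K ⟶ P) [Mono k], Mono ((HomSh.homShFunctor J S.X₃).map k))
    (h : IsZero ((HomSh.extSh J S.X₃ 1).obj M)) : Epi (dualMap J M S.f) := by
  rw [HomSh.extSh_def] at h
  obtain ⟨I, K, i, g, w, hI, hses, he⟩ :=
    exists_epi_of_isZero_rightDerived_one (HomSh.homShFunctor J S.X₃) M hker hmono h
  haveI := hI
  haveI : Sheaf.IsLocallySurjective ((HomSh.homShFunctor J S.X₃).map g) :=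
    (Sheaf.isLocallySurjective_iff_epi' AddCommGrpCat.{u + 1} _).2 he
  suffices Sheaf.IsLocallySurjective (dualMap J M S.f) from
    (Sheaf.isLocallySurjective_iff_epi' AddCommGrpCat.{u + 1} _).1 this
  refine ⟨fun {U} (φ : S.X₁.over U ⟶ M.over U) => ?_⟩
  have hSU := shortExact_over J hS U
  have hMU := shortExact_over J hses U
  haveI := hSU.mono_f
  haveI := hSU.epi_g
  haveI : Injective (I.over U) := OverInj.injective_over U I
  let f' : S.X₁.over U ⟶ S.X₂.over U := (J.overPullback AddCommGrpCat.{u + 1} U).map S.f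
  haveI : Mono f' := hSU.mono_f
  let ψ : S.X₂.over U ⟶ I.over U := Injective.factorThru (φ ≫ (J.overPullback AddCommGrpCat.{u + 1} U).map i) f'
  have hψ : (J.overPullback AddCommGrpCat.{u + 1} U).map S.f ≫ ψ = φ ≫ (J.overPullback AddCommGrpCat.{u + 1} U).map i :=
    Injective.comp_factorThru (φ ≫ (J.overPullback AddCommGrpCat.{u + 1} U).map i) f'
  have hz : (S.map (J.overPullback AddCommGrpCat.{u + 1} U)).f ≫ ψ ≫ (J.overPullback AddCommGrpCat.{u + 1} U).map g = 0 := by
    refine ((Category.assoc _ _ _).symm.trans (congrArg (· ≫ (J.overPullback AddCommGrpCat.{u + 1} U).map g) hψ)).trans ?_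
    rw [Category.assoc, ← Functor.map_comp, w, Functor.map_zero, comp_zero]
    rfl
  let χ : S.X₃.over U ⟶ K.over U := hSU.exact.desc _ hz
  have hχ : (J.overPullback AddCommGrpCat.{u + 1} U).map S.g ≫ χ = ψ ≫ (J.overPullback AddCommGrpCat.{u + 1} U).map g := hSU.exact.g_desc _ _
  refine J.superset_covering ?_ (Presheaf.imageSieve_mem J ((HomSh.homShFunctor J S.X₃).map g).hom χ)
  rintro V k ⟨(χ' : S.X₃.over V ⟶ I.over V), hχ'⟩
  let R := J.overMapPullback AddCommGrpCat.{u + 1} k
  have hχ2 : χ' ≫ (J.overPullback AddCommGrpCat.{u + 1} V).map g = R.map χ := by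
    refine Eq.trans ?_ hχ'
    exact (Category.id_comp _).symm.trans (congrArg (· ≫ (χ' ≫ (J.overPullback AddCommGrpCat.{u + 1} V).map g))
      ((J.overPullback AddCommGrpCat.{u + 1} V).map_id S.X₃).symm)
  have hMV := shortExact_over J hses V
  haveI := hMV.mono_f
  let gV : S.X₂.over V ⟶ S.X₃.over V := (J.overPullback AddCommGrpCat.{u + 1} V).map S.g
  let fV : S.X₁.over V ⟶ S.X₂.over V := (J.overPullback AddCommGrpCat.{u + 1} V).map S.f
  let ψV : S.X₂.over V ⟶ I.over V := R.map ψ
  let φV : S.X₁.over V ⟶ M.over V := R.map φ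
  let iV : M.over V ⟶ I.over V := (J.overPullback AddCommGrpCat.{u + 1} V).map i
  let pV : I.over V ⟶ K.over V := (J.overPullback AddCommGrpCat.{u + 1} V).map g
  have h1 : ψV ≫ pV = gV ≫ R.map χ :=
    (R.map_comp ψ ((J.overPullback AddCommGrpCat.{u + 1} U).map g)).symm.trans ((congrArg R.map hχ).symm.trans
      (R.map_comp ((J.overPullback AddCommGrpCat.{u + 1} U).map S.g) χ))
  have h2 : fV ≫ ψV = φV ≫ iV :=
    (R.map_comp ((J.overPullback AddCommGrpCat.{u + 1} U).map S.f) ψ).symm.trans ((congrArg R.map hψ).trans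
      (R.map_comp φ _))
  have h3 : fV ≫ gV = 0 :=
    ((J.overPullback AddCommGrpCat.{u + 1} V).map_comp S.f S.g).symm.trans
      ((congrArg _ S.zero).trans ((J.overPullback AddCommGrpCat.{u + 1} V).map_zero _ _))
  have hd : (ψV - gV ≫ χ') ≫ pV = 0 := by
    rw [Preadditive.sub_comp, Category.assoc, sub_eq_zero, h1]
    exact congrArg (gV ≫ ·) hχ2.symm
  obtain ⟨e, he'⟩ : ∃ e : S.X₂.over V ⟶ M.over V, e ≫ iV = ψV - gV ≫ χ' :=
    ⟨hMV.exact.lift (ψV - gV ≫ χ') hd, hMV.exact.lift_f _ hd⟩
  haveI : Mono iV := hMV.mono_f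
  refine ⟨e, (dualMap_app J M S.f V e).trans ((cancel_mono iV).1 ?_)⟩
  show (fV ≫ e) ≫ iV = φV ≫ iV
  rw [Category.assoc, he', Preadditive.comp_sub, ← Category.assoc fV gV, h3, zero_comp, sub_zero, h2]

omit [HasInjectiveResolutions (Sheaf J AddCommGrpCat.{u + 1})] in
/-- If the dual sequence is short exact and the double-duality maps of the outer terms are isomorphisms,
so is the one in the middle. -/
theorem isIso_bidualMap₂ (he : Epi (dualMap J M S.f)) (h₁ : IsIso (HomSh.bidualMap J S.X₁ M))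
    (h₃ : IsIso (HomSh.bidualMap J S.X₃ M)) : IsIso (HomSh.bidualMap J S.X₂ M) := by
  haveI := mono_dualMap J M hS
  have hD : (ShortComplex.mk (dualMap J M S.g) (dualMap J M S.f) (dualMap_comp_zero J M)).ShortExact :=
    { exact := exact_dualMap J M hS }
  let T := ShortComplex.mk (dualMap J M (dualMap J M S.f)) (dualMap J M (dualMap J M S.g))
    (dualMap_comp_zero J M (S := ShortComplex.mk (dualMap J M S.g) (dualMap J M S.f) (dualMap_comp_zero J M)))
  haveI : Mono T.f := mono_dualMap J M hD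
  haveI := hS.epi_g
  haveI : Epi T.g := by
    haveI : Epi (HomSh.bidualMap J S.X₂ M ≫ dualMap J M (dualMap J M S.g)) := by
      rw [bidualMap_naturality J M S.g]
      infer_instance
    exact epi_of_epi (HomSh.bidualMap J S.X₂ M) _
  have hT : T.ShortExact := { exact := exact_dualMap J M hD }
  let φ : S ⟶ T :=
    { τ₁ := HomSh.bidualMap J S.X₁ M, τ₂ := HomSh.bidualMap J S.X₂ M, τ₃ := HomSh.bidualMap J S.X₃ M
      comm₁₂ := bidualMap_naturality J M S.f
      comm₂₃ := bidualMap_naturality J M S.g }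
  haveI : IsIso φ.τ₁ := h₁
  haveI : IsIso φ.τ₃ := h₃
  exact ShortComplex.isIso₂_of_shortExact_of_isIso₁₃ φ hS hT

end GaBidualLib
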