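import Groth.Agent.GaDualLib.Char
import Groth.Agent.GaDualLib.CharZero
import Mathlib.Algebra.DualNumber
import Mathlib.Algebra.Polynomial.Taylor
import Mathlib.RingTheory.AdjoinRoot

/-!
# Multiplicative natural functions on the characters of the additive group
-/

set_option autoImplicit false
set_option maxHeartbeats 1000000
universe u

open Polynomial

noncomputable section

namespace GaBidualLib

variable {C : Type u} [CommRing C]

/-- A polynomial character of the additive group into the multiplicative group. -/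
def IsPolyChar (f : C[X]) : Prop :=
  f.eval 0 = 1 ∧ aeval (MvPolynomial.X 0 + MvPolynomial.X 1 : MvPolynomial (Fin 2) C) f =
    aeval (MvPolynomial.X 0 : MvPolynomial (Fin 2) C) f * aeval (MvPolynomial.X 1 : MvPolynomial (Fin 2) C) f

namespace IsPolyChar

variable {f g : C[X]}

theorem eval₂_add {T : Type u} [CommRing T] (h : IsPolyChar f) (φ : C →+* T) (x y : T) :
    f.eval₂ φ (x + y) = f.eval₂ φ x * f.eval₂ φ y := by
  letI := φ.toAlgebra
  have h2 := congrArg (MvPolynomial.aeval (R := C) ![x, y]) h.2
  rw [map_mul, ← aeval_algHom_apply, ← aeval_algHom_apply, ← aeval_algHom_apply, map_add, MvPolynomial.aeval_X,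
    MvPolynomial.aeval_X] at h2
  exact h2

theorem eval₂_zero {T : Type u} [CommRing T] (h : IsPolyChar f) (φ : C →+* T) : f.eval₂ φ 0 = 1 := by
  rw [eval₂_at_zero, coeff_zero_eq_eval_zero, h.1, map_one]

theorem isUnit_eval₂ {T : Type u} [CommRing T] (h : IsPolyChar f) (φ : C →+* T) (x : T) : IsUnit (f.eval₂ φ x) :=
  IsUnit.of_mul_eq_one (f.eval₂ φ (-x)) (by rw [← h.eval₂_add, add_neg_cancel, h.eval₂_zero])

theorem eval_add (h : IsPolyChar f) (x y : C) : f.eval (x + y) = f.eval x * f.eval y :=
  h.eval₂_add (RingHom.id C) x y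

theorem mul (h : IsPolyChar f) (h' : IsPolyChar g) : IsPolyChar (f * g) := by
  refine ⟨by rw [eval_mul, h.1, h'.1, one_mul], ?_⟩
  rw [map_mul, map_mul, map_mul, h.2, h'.2]
  ring

theorem one : IsPolyChar (1 : C[X]) := ⟨eval_one, by simp⟩

theorem map {C' : Type u} [CommRing C'] (h : IsPolyChar f) (φ : C →+* C') : IsPolyChar (f.map φ) := by
  refine ⟨?_, ?_⟩
  · rw [eval_map, h.eval₂_zero]
  · rw [aeval_def, aeval_def, aeval_def, eval₂_map, eval₂_map, eval₂_map]
    exact h.eval₂_add _ _ _

theorem prod {ι : Type*} (s : Finset ι) (F : ι → C[X]) (h : ∀ i ∈ s, IsPolyChar (F i)) : IsPolyChar (∏ i ∈ s, F i) :=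
  Finset.prod_induction _ IsPolyChar (fun _ _ => IsPolyChar.mul) IsPolyChar.one h

end IsPolyChar

/-- The character attached to an element of square zero. -/
theorem isPolyChar_one_add {e : C} (he : e ^ 2 = 0) : IsPolyChar (1 + Polynomial.C e * X : C[X]) := by
  refine ⟨by simp, ?_⟩
  simp only [map_add, map_one, map_mul, aeval_C, aeval_X]
  have h : (algebraMap C (MvPolynomial (Fin 2) C) e) ^ 2 = 0 := by rw [← map_pow, he, map_zero]
  linear_combination -((MvPolynomial.X 0 : MvPolynomial (Fin 2) C) * MvPolynomial.X 1) * h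

/-- A multiplicative function on characters, natural in the algebra. -/
structure Theta (A : Type u) [CommRing A] where
  app : ∀ (C : Type u) [CommRing C] [Algebra A C], C[X] → C
  mul : ∀ {C : Type u} [CommRing C] [Algebra A C] {f g : C[X]}, IsPolyChar f → IsPolyChar g →
    app C (f * g) = app C f * app C g
  one : ∀ {C : Type u} [CommRing C] [Algebra A C], app C 1 = 1
  natural : ∀ {C C' : Type u} [CommRing C] [Algebra A C] [CommRing C'] [Algebra A C'] (φ : C →ₐ[A] C') {f : C[X]},
    IsPolyChar f → φ (app C f) = app C' (f.map φ.toRingHom)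

namespace Theta

variable {A : Type u} [CommRing A] (Θ : Theta A)

/-- Evaluation at an element. -/
def ev (a : A) : Theta A where
  app C _ _ f := f.eval (algebraMap A C a)
  mul _ _ := eval_mul
  one := eval_one
  natural {C C'} _ _ _ _ φ {f} _ := by
    show φ (f.eval (algebraMap A C a)) = (f.map φ.toRingHom).eval (algebraMap A C' a)
    rw [eval_map, ← φ.commutes a]
    exact (eval₂_at_apply φ.toRingHom (algebraMap A C a)).symm

/-- Division by the evaluation at an element. -/
def twist (a : A) : Theta A where
  app C _ _ f := Θ.app C f * f.eval (-algebraMap A C a)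
  mul {C} _ _ {f g} hf hg := by
    rw [Θ.mul hf hg, eval_mul]
    ring
  one {C} _ _ := by rw [Θ.one, eval_one, one_mul]
  natural {C C'} _ _ _ _ φ {f} hf := by
    rw [map_mul, Θ.natural φ hf, eval_map, ← φ.commutes a]
    refine congrArg _ ?_
    rw [← map_neg φ]
    exact (eval₂_at_apply φ.toRingHom (-algebraMap A C a)).symm

theorem app_eq_eval {a : A} {C : Type u} [CommRing C] [Algebra A C] {f : C[X]} (hf : IsPolyChar f)
    (h : (Θ.twist a).app C f = 1) : Θ.app C f = f.eval (algebraMap A C a) := by
  have h1 : Θ.app C f * f.eval (-algebraMap A C a) = 1 := h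
  calc Θ.app C f = Θ.app C f * (f.eval (-algebraMap A C a) * f.eval (algebraMap A C a)) := by
        rw [← hf.eval_add, neg_add_cancel, hf.1, mul_one]
    _ = f.eval (algebraMap A C a) := by rw [← mul_assoc, h1, one_mul]

/-- The character of the tangent vector. -/
def tang (A : Type u) [CommRing A] : (DualNumber A)[X] := 1 + Polynomial.C DualNumber.eps * X

theorem eps_sq {R : Type u} [CommRing R] : (DualNumber.eps : DualNumber R) ^ 2 = 0 := by
  rw [pow_two, DualNumber.eps_mul_eps]

theorem isPolyChar_tang : IsPolyChar (tang A) := isPolyChar_one_add eps_sq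

/-- The augmentation of dual numbers. -/
def augm : DualNumber A →ₐ[A] A := TrivSqZeroExt.fstHom A A A

theorem map_tang_augm : (tang A).map (augm (A := A)).toRingHom = 1 := by
  simp [tang, augm]

theorem fst_tangent : TrivSqZeroExt.fst (Θ.app (DualNumber A) (tang A)) = 1 := by
  refine (Θ.natural (augm (A := A)) isPolyChar_tang).trans ?_
  rw [map_tang_augm, Θ.one]

/-- The element attached to a natural function. -/
def slope : A := TrivSqZeroExt.snd (Θ.app (DualNumber A) (tang A))

/-- The map of dual numbers onto a square-zero element. -/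
theorem app_one_add {C : Type u} [CommRing C] [Algebra A C] {e : C} (he : e ^ 2 = 0) :
    Θ.app C (1 + Polynomial.C e * X) = 1 + algebraMap A C Θ.slope * e := by
  let φ : DualNumber A →ₐ[A] C := DualNumber.lift ⟨(Algebra.ofId A C, e), by rw [← pow_two, he],
    fun _ => Commute.all _ _⟩
  have hφ : φ DualNumber.eps = e := DualNumber.lift_apply_eps _
  have h1 : (tang A).map φ.toRingHom = 1 + Polynomial.C e * X := by
    simp [tang, hφ]
  have h2 : Θ.app (DualNumber A) (tang A) = algebraMap A _ 1 + algebraMap A _ Θ.slope * DualNumber.eps := by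
    refine TrivSqZeroExt.ext ?_ ?_
    · simp [Θ.fst_tangent, TrivSqZeroExt.algebraMap_eq_inl]
    · simp [slope, TrivSqZeroExt.algebraMap_eq_inl]
  rw [← h1, ← Θ.natural φ isPolyChar_tang, h2, map_add, map_mul, φ.commutes, φ.commutes, map_one, hφ]

theorem slope_twist : (Θ.twist Θ.slope).slope = 0 := by
  show TrivSqZeroExt.snd (Θ.app (DualNumber A) (tang A) * (tang A).eval (-algebraMap A _ Θ.slope)) = 0
  have h := Θ.fst_tangent
  simp [TrivSqZeroExt.algebraMap_eq_inl, slope, h, tang]
  rw [show (1 + Polynomial.C DualNumber.eps * X : (DualNumber A)[X]) = tang A from rfl, h]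
  ring

end Theta

end GaBidualLib
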