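import Groth.Agent.GaBidualLib.Alg

/-!
# Multiplicative natural functions on characters are evaluations in characteristic `p`
-/

set_option autoImplicit false
set_option maxHeartbeats 1000000
universe u

open Polynomial

noncomputable section

namespace GaBidualLib

variable (p : ℕ) [hpr : Fact p.Prime] {C : Type u} [CommRing C]

theorem isUnit_natCast (hp : (p : C) = 0) {n : ℕ} (hn : ¬ p ∣ n) : IsUnit (n : C) := by
  obtain ⟨a, b, hab⟩ := Nat.isCoprime_iff_coprime.2 (hpr.out.coprime_iff_not_dvd.2 hn)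
  have h := congrArg (Int.cast : ℤ → C) hab
  push_cast at h
  rw [hp, mul_zero, zero_add, mul_comm] at h
  exact IsUnit.of_mul_eq_one _ h

/-- The inverse factorial. -/
def fi (C : Type u) [CommRing C] (j : ℕ) : C := Ring.inverse (j.factorial : C)

theorem isUnit_factorial (hp : (p : C) = 0) {j : ℕ} (hj : j < p) : IsUnit (j.factorial : C) :=
  isUnit_natCast p hp fun h => absurd ((hpr.out.dvd_factorial).1 h) (not_le.2 hj)

theorem fi_succ (hp : (p : C) = 0) {j : ℕ} (hj : j + 1 < p) : fi C (j + 1) * ((j + 1 : ℕ) : C) = fi C j := by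
  refine (isUnit_factorial p hp (Nat.lt_of_succ_lt hj)).mul_left_injective ?_
  show fi C (j + 1) * ((j + 1 : ℕ) : C) * (j.factorial : C) = fi C j * (j.factorial : C)
  rw [mul_assoc, ← Nat.cast_mul, ← Nat.factorial_succ, fi, fi, Ring.inverse_mul_cancel _ (isUnit_factorial p hp hj),
    Ring.inverse_mul_cancel _ (isUnit_factorial p hp (Nat.lt_of_succ_lt hj))]

theorem map_fi {C' : Type u} [CommRing C'] (hp : (p : C) = 0) (φ : C →+* C') {j : ℕ} (hj : j < p) :
    φ (fi C j) = fi C' j := by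
  have h := isUnit_factorial p hp hj
  have h' : IsUnit (j.factorial : C') := map_natCast φ j.factorial ▸ h.map φ
  refine h'.mul_left_injective ?_
  show φ (fi C j) * (j.factorial : C') = fi C' j * (j.factorial : C')
  rw [fi, fi, Ring.inverse_mul_cancel _ h', ← map_natCast φ, ← map_mul, Ring.inverse_mul_cancel _ h, map_one]

theorem fi_zero : fi C 0 = 1 := by simp [fi]

theorem fi_one : fi C 1 = 1 := by simp [fi]

/-- The truncated exponential character. -/
def E (t : C) (i : ℕ) : C[X] :=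
  ∑ j ∈ Finset.range p, Polynomial.C (fi C j * t ^ j) * X ^ (j * p ^ i)

theorem charP_of_eq_zero [Nontrivial C] (hp : (p : C) = 0) : CharP C p := by
  obtain ⟨q, hq⟩ := CharP.exists C
  have h : q ∣ p := (CharP.cast_eq_zero_iff C q p).1 hp
  rcases hpr.out.eq_one_or_self_of_dvd q h with h1 | h1
  · subst h1
    have h1 := (CharP.cast_eq_zero_iff C 1 1).2 dvd_rfl
    rw [Nat.cast_one] at h1
    exact absurd h1 one_ne_zero
  · subst h1
    exact hq

theorem isPolyChar_E (hp : (p : C) = 0) {t : C} (ht : t ^ p = 0) (i : ℕ) : IsPolyChar (E p t i) := by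
  cases subsingleton_or_nontrivial C
  · exact ⟨Subsingleton.elim _ _, Subsingleton.elim _ _⟩
  haveI := charP_of_eq_zero p hp
  refine ⟨?_, GaDualLib.expp_mul p ht i⟩
  rw [E, eval_finset_sum, Finset.sum_eq_single 0]
  · simp [fi_zero]
  · intro j _ hj
    simp [hj, hpr.out.ne_zero]
  · intro h
    exact absurd (Finset.mem_range.2 hpr.out.pos) h

theorem map_E {C' : Type u} [CommRing C'] (hp : (p : C) = 0) (φ : C →+* C') (t : C) (i : ℕ) :
    (E p t i).map φ = E p (φ t) i := by
  rw [E, E, Polynomial.map_sum]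
  refine Finset.sum_congr rfl fun j hj => ?_
  rw [Polynomial.map_mul, Polynomial.map_pow, map_C, map_X, map_mul, map_pow, map_fi p hp φ (Finset.mem_range.1 hj)]

theorem E_zero (i : ℕ) : E p (0 : C) i = 1 := by
  rw [E, Finset.sum_eq_single 0]
  · simp [fi_zero]
  · intro j _ hj
    simp [hj]
  · intro h
    exact absurd (Finset.mem_range.2 hpr.out.pos) h

theorem E_of_sq {e : C} (he : e ^ 2 = 0) (i : ℕ) : E p e i = 1 + Polynomial.C e * X ^ p ^ i := by
  obtain ⟨m, hm⟩ : ∃ m, p = m + 2 := ⟨p - 2, by have := hpr.out.two_le; omega⟩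
  rw [E]
  conv_lhs => rw [show Finset.range p = Finset.range (m + 2) by rw [hm]]
  rw [Finset.sum_range_succ', Finset.sum_range_succ', Finset.sum_eq_zero]
  · simp [fi_zero, fi_one, add_comm]
  · intro j _
    simp [pow_eq_zero_of_le (by omega : 2 ≤ j + 1 + 1) he]

theorem pow_add_sq_zero {s e : C} (he : e ^ 2 = 0) (n : ℕ) :
    (s + e) ^ n = s ^ n + (n : C) * s ^ (n - 1) * e := by
  simpa [derivative_X_pow] using Polynomial.eval_add_of_sq_eq_zero (X ^ n : C[X]) s e he

/-- The product of a truncated exponential with a tangent one. -/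
theorem E_mul_E (hp : (p : C) = 0) {s e : C} (hs : s ^ p = 0) (he : e ^ 2 = 0) (i : ℕ) :
    E p s i * E p e i = E p (s + e) i * E p (fi C (p - 1) * s ^ (p - 1) * e) (i + 1) := by
  obtain ⟨m, hm⟩ : ∃ m, p = m + 1 := ⟨p - 1, by have := hpr.out.pos; omega⟩
  have hc : (fi C (p - 1) * s ^ (p - 1) * e) ^ 2 = 0 := by rw [mul_pow, he, mul_zero]
  rw [E_of_sq p he, E_of_sq p hc, pow_succ p i, mul_comm (p ^ i) p]
  set q := p ^ i with hq
  let F : ℕ → C[X] := fun j => Polynomial.C (fi C j * s ^ j) * X ^ (j * q)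
  let D : ℕ → C[X] := fun j => Polynomial.C (fi C j * (j : C) * s ^ (j - 1)) * X ^ (j * q)
  have hEs : E p s i = ∑ j ∈ Finset.range (m + 1), F j := by rw [E, ← hq, hm]
  have hEse : E p (s + e) i = ∑ j ∈ Finset.range (m + 1), (F j + Polynomial.C e * D j) := by
    rw [E, ← hq, hm]
    refine Finset.sum_congr rfl fun j _ => ?_
    simp only [F, D, pow_add_sq_zero he, map_add, map_mul, map_natCast]
    ring
  have hD : (∑ j ∈ Finset.range m, F j) * X ^ q = ∑ j ∈ Finset.range (m + 1), D j := by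
    rw [Finset.sum_range_succ', Finset.sum_mul]
    simp only [D, Nat.cast_zero, mul_zero, zero_mul, map_zero, add_zero]
    refine Finset.sum_congr rfl fun j hj => ?_
    have hj' := Finset.mem_range.1 hj
    simp only [F]
    rw [fi_succ p hp (by omega), Nat.add_sub_cancel, mul_assoc, ← pow_add]
    ring_nf
  have hkill : ∀ Y : C[X], Polynomial.C (fi C (p - 1) * s ^ (p - 1) * e) * (∑ j ∈ Finset.range (m + 1), (F j + Y * F j)) =
      Polynomial.C (fi C (p - 1) * s ^ (p - 1) * e) * (F 0 + Y * F 0) := fun Y => by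
    rw [Finset.mul_sum, Finset.sum_range_succ', Finset.sum_eq_zero, zero_add]
    intro j _
    have h0 : s ^ (p - 1) * s ^ (j + 1) = 0 := by
      rw [← pow_add]
      exact pow_eq_zero_of_le (by omega) hs
    have h1 : Polynomial.C (fi C (p - 1) * s ^ (p - 1) * e) * F (j + 1) = 0 := by
      simp only [F]
      rw [← mul_assoc, ← map_mul, show fi C (p - 1) * s ^ (p - 1) * e * (fi C (j + 1) * s ^ (j + 1)) =
        fi C (p - 1) * e * fi C (j + 1) * (s ^ (p - 1) * s ^ (j + 1)) by ring, h0, mul_zero, map_zero, zero_mul]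
    linear_combination (1 + Y) * h1
  have hF0 : F 0 = 1 := by simp [F, fi_zero]
  have hk0 := hkill 0
  simp only [zero_mul, add_zero, hF0, mul_one] at hk0
  have he' : Polynomial.C (fi C (p - 1) * s ^ (p - 1) * e) * Polynomial.C e = 0 := by
    rw [← map_mul, mul_assoc, ← pow_two, he, mul_zero, map_zero]
  have hlast : F m = Polynomial.C (fi C (p - 1) * s ^ (p - 1)) * X ^ (m * q) := by
    simp only [F, show p - 1 = m by omega]
  have hpq : p * q = m * q + q := by rw [hm]; ring
  rw [hEs, hEse, hpq, pow_add, Finset.sum_add_distrib, ← Finset.mul_sum, ← hD]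
  rw [Finset.sum_range_succ] at hk0 ⊢
  rw [hlast] at hk0 ⊢
  have hce : Polynomial.C (fi C (p - 1) * s ^ (p - 1) * e) =
      Polynomial.C (fi C (p - 1) * s ^ (p - 1)) * Polynomial.C e := map_mul _ _ _
  linear_combination -((X : C[X]) ^ (m * q) * X ^ q) * hk0
    - ((∑ j ∈ Finset.range m, F j) * X ^ q * (X ^ (m * q) * X ^ q)) * he' - (X ^ (m * q) * X ^ q) * hce

namespace Theta

variable {A : Type u} [CommRing A] (Θ : Theta A)

theorem hpC (hp : (p : A) = 0) (C : Type u) [CommRing C] [Algebra A C] : (p : C) = 0 := by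
  rw [← map_natCast (algebraMap A C), hp, map_zero]

theorem exists_P (hp : (p : A) = 0) (i : ℕ) : ∃ P : A[X], P.coeff 0 = 1 ∧
    ∀ (C : Type u) [CommRing C] [Algebra A C] (t : C), t ^ p = 0 → Θ.app C (E p t i) = aeval t P := by
  let s : AdjoinRoot (X ^ p : A[X]) := AdjoinRoot.root _
  have hs : s ^ p = 0 := by
    show AdjoinRoot.root (X ^ p : A[X]) ^ p = 0
    rw [← AdjoinRoot.mk_X, ← map_pow, AdjoinRoot.mk_self]
  obtain ⟨P, hP⟩ := AdjoinRoot.mk_surjective (g := (X ^ p : A[X])) (Θ.app _ (E p s i))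
  have key : ∀ (C : Type u) [CommRing C] [Algebra A C] (t : C), t ^ p = 0 → Θ.app C (E p t i) = aeval t P := by
    intro C _ _ t ht
    let φ : AdjoinRoot (X ^ p : A[X]) →ₐ[A] C := AdjoinRoot.liftAlgHom _ (Algebra.ofId A C) t (by simp [ht])
    have hφ : φ s = t := AdjoinRoot.liftAlgHom_root _ _ _ _
    have h := Θ.natural φ (isPolyChar_E p (hpC p hp _) hs i)
    rw [map_E p (hpC p hp _), ← hP, AdjoinRoot.liftAlgHom_mk] at h
    rw [show φ.toRingHom s = t from hφ] at h
    exact h.symm.trans rfl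
  refine ⟨P, ?_, key⟩
  have h := key A 0 (zero_pow hpr.out.ne_zero)
  rw [E_zero, Θ.one, aeval_def, eval₂_at_zero] at h
  exact h.symm

theorem aeval_eps (P : A[X]) (hP : P.coeff 0 = 1) {C : Type u} [CommRing C] [Algebra A C] {e : C} (he : e ^ 2 = 0) :
    aeval e P = 1 + algebraMap A C (P.coeff 1) * e := by
  have h := Polynomial.aeval_add_of_sq_eq_zero P (0 : C) e he
  simp only [zero_add] at h
  rw [h]
  simp only [aeval_def, eval₂_at_zero, coeff_derivative, hP, map_one]
  simp

theorem E_tang (e : C) (he : e ^ 2 = 0) : E p e 0 = 1 + Polynomial.C e * X := by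
  rw [E_of_sq p he, pow_zero, pow_one]

/-- The step of the induction. -/
theorem step (hp : (p : A) = 0) (i : ℕ) {P Q : A[X]} (hP0 : P.coeff 0 = 1) (hQ0 : Q.coeff 0 = 1)
    (hP : ∀ (C : Type u) [CommRing C] [Algebra A C] (t : C), t ^ p = 0 → Θ.app C (E p t i) = aeval t P)
    (hQ : ∀ (C : Type u) [CommRing C] [Algebra A C] (t : C), t ^ p = 0 → Θ.app C (E p t (i + 1)) = aeval t Q)
    (h1 : P.coeff 1 = 0) : Q.coeff 1 = 0 ∧ (X : A[X]) ^ p ∣ P - 1 := by
  obtain ⟨m, hm⟩ : ∃ m, p = m + 1 := ⟨p - 1, by have := hpr.out.pos; omega⟩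
  let R := AdjoinRoot (X ^ p : A[X])
  let s : R := AdjoinRoot.root _
  have hs : s ^ p = 0 := by
    show AdjoinRoot.root (X ^ p : A[X]) ^ p = 0
    rw [← AdjoinRoot.mk_X, ← map_pow, AdjoinRoot.mk_self]
  let ι : R →ₐ[A] DualNumber R := TrivSqZeroExt.inlAlgHom A R R
  have ht : (ι s) ^ p = 0 := by rw [← map_pow, hs, map_zero]
  have he : (DualNumber.eps : DualNumber R) ^ 2 = 0 := eps_sq
  have he' : (DualNumber.eps : DualNumber R) ^ p = 0 := pow_eq_zero_of_le hpr.out.two_le he
  have hpD : (p : DualNumber R) = 0 := hpC p hp _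
  have hte : (ι s + DualNumber.eps) ^ p = 0 := by
    rw [pow_add_sq_zero he, ht, hpD, zero_mul, zero_mul, zero_add]
  set c : DualNumber R := fi (DualNumber R) (p - 1) * ι s ^ (p - 1) * DualNumber.eps with hc
  have hc2 : c ^ 2 = 0 := by rw [hc, mul_pow, he, mul_zero]
  have hcp : c ^ p = 0 := pow_eq_zero_of_le hpr.out.two_le hc2
  have h := congrArg (Θ.app (DualNumber R)) (E_mul_E p hpD ht he i)
  rw [Θ.mul (isPolyChar_E p hpD ht i) (isPolyChar_E p hpD he' i),
    Θ.mul (isPolyChar_E p hpD hte i) (isPolyChar_E p hpD hcp (i + 1)), hP _ _ ht, hP _ _ he', hP _ _ hte, hQ _ _ hcp,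
    aeval_eps P hP0 he, h1, map_zero, zero_mul, add_zero, mul_one, aeval_eps Q hQ0 hc2,
    Polynomial.aeval_add_of_sq_eq_zero P _ _ he, aeval_algHom_apply, aeval_algHom_apply] at h
  let k : A := fi A (p - 1)
  have hfi : fi (DualNumber R) (p - 1) = ι (algebraMap A R k) := by
    exact (map_fi p (hpC p hp R) ι.toRingHom (by omega)).symm.trans
      (congrArg ι (map_fi p hp (algebraMap A R) (by omega)).symm)
  have hal : algebraMap A (DualNumber R) (Q.coeff 1) = ι (algebraMap A R (Q.coeff 1)) := (ι.commutes _).symm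
  rw [hc, hfi, hal] at h
  have h2 := congrArg TrivSqZeroExt.snd h
  simp [ι, ← TrivSqZeroExt.inl_pow, TrivSqZeroExt.algebraMap_eq_inl'] at h2
  have h3 : AdjoinRoot.mk (X ^ p : A[X]) (derivative P + Polynomial.C (Q.coeff 1 * k) * X ^ (p - 1) * P) = 0 := by
    rw [map_add, map_mul, map_mul, map_pow, AdjoinRoot.mk_X, AdjoinRoot.mk_C, map_mul, ← AdjoinRoot.aeval_eq,
      ← AdjoinRoot.aeval_eq, ← AdjoinRoot.algebraMap_eq]
    linear_combination -h2
  have h4 := X_pow_dvd_iff.1 (AdjoinRoot.mk_eq_zero.1 h3)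
  have hlow : ∀ j, j < m → P.coeff (j + 1) = 0 := fun j hj => by
    have h5 := h4 j (by omega)
    rw [coeff_add, coeff_derivative, mul_assoc, coeff_C_mul, coeff_X_pow_mul', if_neg (by omega), mul_zero,
      add_zero] at h5
    have hu : IsUnit ((j + 1 : ℕ) : A) :=
      isUnit_natCast p hp fun h => absurd (Nat.le_of_dvd (by omega) h) (by omega)
    push_cast at hu
    exact hu.mul_left_eq_zero.1 h5
  refine ⟨?_, ?_⟩
  · have h5 := h4 m (by omega)
    rw [coeff_add, coeff_derivative, mul_assoc, coeff_C_mul, coeff_X_pow_mul', if_pos (by omega),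
      show m - (p - 1) = 0 by omega, hP0, mul_one] at h5
    have hp' : ((m : A) + 1) = 0 := by rw [← Nat.cast_succ, Nat.succ_eq_add_one, ← hm, hp]
    rw [hp', mul_zero, zero_add] at h5
    exact ((isUnit_factorial p hp (show p - 1 < p by omega)).ringInverse).mul_left_eq_zero.1 h5
  · refine X_pow_dvd_iff.2 fun j hj => ?_
    rcases Nat.eq_zero_or_eq_succ_pred j with h0 | h0
    · simp [h0, hP0]
    · rw [h0, coeff_sub, hlow _ (by omega), coeff_one, if_neg (by omega), sub_zero]

/-- A natural function with zero slope is trivial on the truncated exponentials. -/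
theorem app_E_eq_one (hp : (p : A) = 0) (h0 : Θ.slope = 0) (i : ℕ) {C : Type u} [CommRing C] [Algebra A C] {t : C}
    (ht : t ^ p = 0) : Θ.app C (E p t i) = 1 := by
  choose P hP0 hP using fun i => exists_P p Θ hp i
  have h1 : ∀ i, (P i).coeff 1 = 0 := by
    intro i
    induction i with
    | zero =>
      have he : (DualNumber.eps : DualNumber A) ^ 2 = 0 := eps_sq
      have h := hP 0 _ _ (pow_eq_zero_of_le hpr.out.two_le he)
      rw [E_tang p _ he, aeval_eps _ (hP0 0) he, Θ.app_one_add he, h0, map_zero, zero_mul, add_zero] at h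
      have h2 := congrArg TrivSqZeroExt.snd h
      simpa [TrivSqZeroExt.algebraMap_eq_inl] using h2.symm
    | succ i ih => exact (step p Θ hp i (hP0 i) (hP0 _) (hP i) (hP _) ih).1
  obtain ⟨Q, hQ⟩ := (step p Θ hp i (hP0 i) (hP0 _) (hP i) (hP _) (h1 i)).2
  rw [hP i C t ht, sub_eq_iff_eq_add'.1 hQ, map_add, map_one, map_mul, map_pow, aeval_X, ht, zero_mul, add_zero]

/-- Natural multiplicative functions on characters are evaluations. -/
theorem exists_eq_eval_of_charP (hp : (p : A) = 0) :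
    ∃ a : A, ∀ (C : Type u) [CommRing C] [Algebra A C] (f : C[X]), IsPolyChar f →
      Θ.app C f = f.eval (algebraMap A C a) := by
  refine ⟨Θ.slope, fun C _ _ f hf => Θ.app_eq_eval hf ?_⟩
  cases subsingleton_or_nontrivial C
  · exact Subsingleton.elim _ _
  haveI := charP_of_eq_zero p (hpC p hp C)
  obtain ⟨N, a, ha, rfl⟩ := (GaDualLib.polyCharacter_iff p f).1 hf
  induction N with
  | zero => simpa using (Θ.twist Θ.slope).one
  | succ N ih =>
    have h1 : ∀ n, IsPolyChar (GaDualLib.expp p (a n) (p ^ n)) := fun n => isPolyChar_E p (hpC p hp C) (ha n) n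
    rw [Finset.prod_range_succ, (Θ.twist Θ.slope).mul (IsPolyChar.prod _ _ fun n _ => h1 n) (h1 N),
      ih (IsPolyChar.prod _ _ fun n _ => h1 n), one_mul]
    exact app_E_eq_one p (Θ.twist Θ.slope) hp Θ.slope_twist N (ha N)

end Theta

end GaBidualLib
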