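import Groth.Agent.GaBidualLib.Alg
import Mathlib.RingTheory.PowerSeries.Exp

/-!
# Multiplicative natural functions on characters are evaluations over the rationals
-/

set_option autoImplicit false
set_option maxHeartbeats 1000000
universe u

open Polynomial

noncomputable section

namespace GaBidualLib

section

variable {C : Type u} [CommRing C] [Algebra ℚ C]

/-- The exponential polynomial. -/
def Ex (t : C) (N : ℕ) : C[X] :=
  ∑ j ∈ Finset.range N, Polynomial.C (algebraMap ℚ C ((j.factorial : ℚ))⁻¹ * t ^ j) * X ^ j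

theorem coe_Ex {t : C} {N : ℕ} (ht : t ^ N = 0) :
    ((Ex t N : C[X]) : PowerSeries C) = PowerSeries.rescale t (PowerSeries.exp C) := by
  ext n
  rw [Polynomial.coeff_coe, Ex, finset_sum_coeff, PowerSeries.coeff_rescale, PowerSeries.coeff_exp]
  simp only [coeff_C_mul, coeff_X_pow, mul_ite, mul_one, mul_zero]
  rw [Finset.sum_ite_eq]
  split_ifs with h
  · rw [one_div, mul_comm]
  · rw [pow_eq_zero_of_le (by simpa using h) ht, zero_mul]

theorem isPolyChar_Ex {t : C} {N : ℕ} (ht : t ^ N = 0) : IsPolyChar (Ex t N) :=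
  (GaDualLib.polyCharacter_rat_iff (Ex t N)).2 ⟨t, ⟨N, ht⟩, coe_Ex ht⟩

theorem map_Ex {C' : Type u} [CommRing C'] [Algebra ℚ C'] (φ : C →+* C') (t : C) (N : ℕ) :
    (Ex t N).map φ = Ex (φ t) N := by
  rw [Ex, Ex, Polynomial.map_sum]
  refine Finset.sum_congr rfl fun j _ => ?_
  rw [Polynomial.map_mul, Polynomial.map_pow, map_C, map_X, map_mul, map_pow, φ.map_rat_algebraMap]

theorem Ex_of_sq {e : C} (he : e ^ 2 = 0) {N : ℕ} (hN : 2 ≤ N) : Ex e N = 1 + Polynomial.C e * X := by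
  obtain ⟨m, rfl⟩ : ∃ m, N = m + 2 := ⟨N - 2, by omega⟩
  rw [Ex, Finset.sum_range_succ', Finset.sum_range_succ', Finset.sum_eq_zero]
  · simp [add_comm]
  · intro j _
    simp [pow_eq_zero_of_le (by omega : 2 ≤ j + 1 + 1) he]

theorem Ex_zero {N : ℕ} (hN : 0 < N) : Ex (0 : C) N = 1 := by
  obtain ⟨m, rfl⟩ : ∃ m, N = m + 1 := ⟨N - 1, by omega⟩
  rw [Ex, Finset.sum_range_succ', Finset.sum_eq_zero]
  · simp
  · intro j _
    simp

end

namespace Theta

variable {A : Type u} [CommRing A] [Algebra ℚ A] (Θ : Theta A)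

/-- Algebras over an algebra over the rationals. -/
abbrev ratAlg (A : Type u) [CommRing A] [Algebra ℚ A] (C : Type u) [CommRing C] [Algebra A C] : Algebra ℚ C :=
  ((algebraMap A C).comp (algebraMap ℚ A)).toAlgebra

theorem app_Ex (h0 : Θ.slope = 0) (N : ℕ) (hN : 1 ≤ N) {C : Type u} [CommRing C] [Algebra A C] [Algebra ℚ C]
    {t : C} (ht : t ^ (N + 1) = 0) : Θ.app C (Ex t (N + 1)) = 1 := by
  let R₁ := AdjoinRoot (X ^ (N + 1) : A[X])
  letI : Algebra ℚ R₁ := ratAlg A R₁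
  let s₁ : R₁ := AdjoinRoot.root _
  have hs₁ : s₁ ^ (N + 1) = 0 := by
    show AdjoinRoot.root (X ^ (N + 1) : A[X]) ^ (N + 1) = 0
    rw [← AdjoinRoot.mk_X, ← map_pow, AdjoinRoot.mk_self]
  obtain ⟨P, hP⟩ := AdjoinRoot.mk_surjective (g := (X ^ (N + 1) : A[X])) (Θ.app _ (Ex s₁ (N + 1)))
  have key : ∀ (C : Type u) [CommRing C] [Algebra A C] [Algebra ℚ C] (t : C), t ^ (N + 1) = 0 →
      Θ.app C (Ex t (N + 1)) = aeval t P := by
    intro C _ _ _ t ht
    let φ : R₁ →ₐ[A] C := AdjoinRoot.liftAlgHom _ (Algebra.ofId A C) t (by simp [ht])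
    have hφ : φ s₁ = t := AdjoinRoot.liftAlgHom_root _ _ _ _
    have h := Θ.natural φ (isPolyChar_Ex hs₁)
    rw [map_Ex, ← hP, AdjoinRoot.liftAlgHom_mk, show φ.toRingHom s₁ = t from hφ] at h
    exact h.symm.trans rfl
  have hP0 : P.coeff 0 = 1 := by
    have h := key A 0 (zero_pow N.succ_ne_zero)
    rw [Ex_zero N.succ_pos, Θ.one, aeval_def, eval₂_at_zero] at h
    exact h.symm
  let R := AdjoinRoot (X ^ N : A[X])
  let s : R := AdjoinRoot.root _
  have hs : s ^ N = 0 := by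
    show AdjoinRoot.root (X ^ N : A[X]) ^ N = 0
    rw [← AdjoinRoot.mk_X, ← map_pow, AdjoinRoot.mk_self]
  letI : Algebra ℚ (DualNumber R) := ratAlg A (DualNumber R)
  let ι : R →ₐ[A] DualNumber R := TrivSqZeroExt.inlAlgHom A R R
  have ht' : ι s ^ N = 0 := by rw [← map_pow, hs, map_zero]
  have ht1 : ι s ^ (N + 1) = 0 := pow_eq_zero_of_le N.le_succ ht'
  have he : (DualNumber.eps : DualNumber R) ^ 2 = 0 := eps_sq
  have he1 : (DualNumber.eps : DualNumber R) ^ (N + 1) = 0 := pow_eq_zero_of_le (by omega) he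
  have hte : (ι s + DualNumber.eps) ^ (N + 1) = 0 := by
    have h := Polynomial.eval_add_of_sq_eq_zero (X ^ (N + 1) : (DualNumber R)[X]) (ι s) _ he
    simpa [derivative_X_pow, ht1, ht'] using h
  have hEx : Ex (ι s + DualNumber.eps) (N + 1) = Ex (ι s) (N + 1) * Ex DualNumber.eps (N + 1) := by
    refine Polynomial.coe_inj.1 ?_
    rw [Polynomial.coe_mul, coe_Ex hte, coe_Ex ht1, coe_Ex he1, PowerSeries.exp_mul_exp_eq_exp_add]
  have h := congrArg (Θ.app (DualNumber R)) hEx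
  rw [Θ.mul (isPolyChar_Ex ht1) (isPolyChar_Ex he1), key _ _ hte, key _ _ ht1, Ex_of_sq he (by omega),
    Θ.app_one_add he, h0, map_zero, zero_mul, add_zero, mul_one, Polynomial.aeval_add_of_sq_eq_zero P _ _ he,
    aeval_algHom_apply, aeval_algHom_apply] at h
  have h2 := congrArg TrivSqZeroExt.snd h
  simp [ι] at h2
  have h3 : AdjoinRoot.mk (X ^ N : A[X]) (derivative P) = 0 := by
    rw [← AdjoinRoot.aeval_eq]
    exact h2
  have h4 := X_pow_dvd_iff.1 (AdjoinRoot.mk_eq_zero.1 h3)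
  have h5 : (X : A[X]) ^ (N + 1) ∣ P - 1 := X_pow_dvd_iff.2 fun j hj => by
    cases j with
    | zero => simp [hP0]
    | succ j =>
      have h6 := h4 j (by omega)
      rw [coeff_derivative] at h6
      have hu : IsUnit ((j : A) + 1) := by
        have h7 : IsUnit ((j : ℚ) + 1) := (Ne.isUnit (by positivity))
        simpa using h7.map (algebraMap ℚ A)
      rw [coeff_sub, coeff_one, if_neg j.succ_ne_zero, hu.mul_left_eq_zero.1 h6, sub_zero]
  obtain ⟨Q, hQ⟩ := h5
  rw [key C t ht, sub_eq_iff_eq_add'.1 hQ, map_add, map_one, map_mul, map_pow, aeval_X, ht, zero_mul, add_zero]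

/-- Natural multiplicative functions on characters are evaluations. -/
theorem exists_eq_eval_of_rat :
    ∃ a : A, ∀ (C : Type u) [CommRing C] [Algebra A C] (f : C[X]), IsPolyChar f →
      Θ.app C f = f.eval (algebraMap A C a) := by
  refine ⟨Θ.slope, fun C _ _ f hf => Θ.app_eq_eval hf ?_⟩
  letI : Algebra ℚ C := ratAlg A C
  obtain ⟨t, ⟨n, hn⟩, hf'⟩ := (GaDualLib.polyCharacter_rat_iff f).1 hf
  have ht : t ^ (n + 1 + 1) = 0 := pow_eq_zero_of_le (by omega) hn
  have hf2 : f = Ex t (n + 1 + 1) := Polynomial.coe_inj.1 (hf'.trans (coe_Ex ht).symm)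
  rw [hf2]
  exact (Θ.twist Θ.slope).app_Ex Θ.slope_twist (n + 1) (by omega) ht

end Theta

end GaBidualLib
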