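import Groth.Agent.GaBidualLib.CharP
import Mathlib.Algebra.Polynomial.Expand

/-!
# Characters of the additive group and the dual of Frobenius: algebra
-/

set_option autoImplicit false
set_option maxHeartbeats 1000000
universe u

open Polynomial

noncomputable section

namespace GaBidualLib

variable (p : ℕ) [hpr : Fact p.Prime] {C : Type u} [CommRing C]

theorem add_pow_p (hp : (p : C) = 0) (x y : C) : (x + y) ^ p = x ^ p + y ^ p := by
  obtain ⟨r, hr⟩ := exists_add_pow_prime_eq hpr.out x y
  rw [hr, hp, zero_mul, zero_mul, zero_mul, add_zero]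

theorem eval₂_expand {T : Type u} [CommRing T] (φ : C →+* T) (g : C[X]) (x : T) :
    (expand C p g).eval₂ φ x = g.eval₂ φ (x ^ p) := by
  rw [expand_eq_comp_X_pow, eval₂_comp, eval₂_X_pow]

theorem IsPolyChar.expand (hp : (p : C) = 0) {g : C[X]} (hg : IsPolyChar g) : IsPolyChar (Polynomial.expand C p g) := by
  refine ⟨?_, ?_⟩
  · rw [eval, eval₂_expand, zero_pow hpr.out.ne_zero]
    exact hg.1
  · rw [aeval_def, aeval_def, aeval_def, eval₂_expand, eval₂_expand, eval₂_expand,
      add_pow_p p (by rw [← map_natCast (algebraMap C (MvPolynomial (Fin 2) C)), hp, map_zero]),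
      hg.eval₂_add]

theorem expand_E (t : C) (i : ℕ) : Polynomial.expand C p (E p t i) = E p t (i + 1) := by
  rw [E, E, map_sum]
  refine Finset.sum_congr rfl fun j _ => ?_
  rw [map_mul, map_pow, expand_C, expand_X, ← pow_mul, pow_succ]
  ring_nf

theorem coeff_one_mul {f g : C[X]} (hf : f.coeff 0 = 1) (hg : g.coeff 0 = 1) :
    (f * g).coeff 1 = f.coeff 1 + g.coeff 1 := by
  rw [coeff_mul, Finset.Nat.antidiagonal_succ, Finset.sum_cons, Finset.Nat.antidiagonal_zero]
  simp [hf, hg, add_comm]

theorem coeff_one_expand (g : C[X]) : (Polynomial.expand C p g).coeff 1 = 0 := by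
  rw [coeff_expand hpr.out.pos, if_neg]
  exact hpr.out.not_dvd_one

theorem coeff_one_E (t : C) : (E p t 0).coeff 1 = t := by
  rw [E, finset_sum_coeff, Finset.sum_eq_single 1]
  · simp [fi_one]
  · intro j _ hj
    rw [pow_zero, mul_one, coeff_C_mul, coeff_X_pow, if_neg (Ne.symm hj), mul_zero]
  · intro h
    exact absurd (Finset.mem_range.2 hpr.out.one_lt) h

theorem coeff_zero_of_char {f : C[X]} (hf : IsPolyChar f) : f.coeff 0 = 1 := by
  rw [coeff_zero_eq_eval_zero, hf.1]

/-- A character is a truncated exponential times a character in the `p`-th power of the variable. -/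
theorem exists_decomp (hp : (p : C) = 0) {f : C[X]} (hf : IsPolyChar f) :
    f.coeff 1 ^ p = 0 ∧ ∃ g : C[X], IsPolyChar g ∧ f = E p (f.coeff 1) 0 * Polynomial.expand C p g := by
  cases subsingleton_or_nontrivial C
  · exact ⟨Subsingleton.elim _ _, 1, IsPolyChar.one, Subsingleton.elim _ _⟩
  haveI := charP_of_eq_zero p hp
  obtain ⟨N, a, ha, h⟩ := (GaDualLib.polyCharacter_iff p f).1 hf
  suffices ∃ t : C, ∃ g : C[X], t ^ p = 0 ∧ IsPolyChar g ∧ f = E p t 0 * Polynomial.expand C p g by
    obtain ⟨t, g, ht, hg, hfe⟩ := this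
    have ht1 : f.coeff 1 = t := by
      rw [hfe, coeff_one_mul (coeff_zero_of_char (isPolyChar_E p hp ht 0))
        (coeff_zero_of_char (hg.expand p hp)), coeff_one_E, coeff_one_expand, add_zero]
    exact ⟨ht1 ▸ ht, g, hg, ht1.symm ▸ hfe⟩
  cases N with
  | zero => exact ⟨0, 1, zero_pow hpr.out.ne_zero, IsPolyChar.one, by simp [h, E_zero]⟩
  | succ N =>
    refine ⟨a 0, ∏ n ∈ Finset.range N, E p (a (n + 1)) n, ha 0,
      IsPolyChar.prod _ _ fun n _ => isPolyChar_E p hp (ha _) n, ?_⟩
    rw [h, Finset.prod_range_succ', map_prod, mul_comm]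
    refine congrArg₂ (· * ·) rfl (Finset.prod_congr rfl fun n _ => ?_)
    rw [expand_E]
    rfl

end GaBidualLib
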