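import Groth.Agent.GaBidualLib.Sheaf
import Groth.Agent.GaBidualLib.FrobAlg
import Groth.Agent.GaBidualLib.DualExact
import Groth.Agent.BigCohLib.GaAcyclic

/-!
# The dual of Frobenius and its cokernel
-/

set_option autoImplicit false
set_option maxHeartbeats 1600000
universe u

open CategoryTheory CategoryTheory.Limits AlgebraicGeometry Opposite CategoryTheory.Abelian
open AdeqLib AdeqModLib GmExtLib
open Groth.Agent
open scoped MonObj

noncomputable section

namespace GaBidualLib

variable {S : Scheme.{u}}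

local notation "Jf" => QuotSh.J Scheme.fppfPrecoverage S
local notation "Gas" => CGrpSh2.Ga Scheme.fppfPrecoverage S

section chiG

variable {T : Over S} {f g : Polynomial Γ(T.left, ⊤)}

/-- The value of the homomorphism attached to a character of functions. -/
def chiGVal (hf : IsPolyChar f) {Z : Over S} (z : Z ⟶ T) (x : Z ⟶ Red.Ga S) : (G S).obj.obj (op Z) :=
  gSec Z (hf.isUnit_eval₂ z.left.appTop.hom (Red.gaFn x)).unit

theorem chiGVal_mul (hf : IsPolyChar f) {Z : Over S} (z : Z ⟶ T) (x y : Z ⟶ Red.Ga S) :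
    chiGVal hf z (x * y) = chiGVal hf z x + chiGVal hf z y := by
  refine Eq.trans (congrArg (gSec Z) (Units.ext ?_)) (gSec_mul Z _ _)
  show f.eval₂ z.left.appTop.hom (Red.gaFn (x * y)) = _
  rw [GaPts.gaFn_mul, hf.eval₂_add]
  rfl

theorem map_chiGVal (hf : IsPolyChar f) {Z Z' : Over S} (φ : Z' ⟶ Z) (z : Z ⟶ T) (x : Z ⟶ Red.Ga S) :
    (G S).obj.map φ.op (chiGVal hf z x) = chiGVal hf (φ ≫ z) (φ ≫ x) := by
  refine (map_gSec _ _).trans (congrArg (gSec Z') (Units.ext ?_))
  show φ.left.appTop.hom (f.eval₂ z.left.appTop.hom (Red.gaFn x)) = f.eval₂ (φ ≫ z).left.appTop.hom (Red.gaFn (φ ≫ x))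
  rw [Polynomial.hom_eval₂, GaPts.gaFn_comp]
  rfl

/-- The homomorphism attached to a character of functions. -/
def chiG (hf : IsPolyChar f) : (Gas).over T ⟶ (G S).over T :=
  ⟨{ app := fun W => AddCommGrpCat.ofHom (AddMonoidHom.mk'
      (fun y : (Gas).obj.obj (op W.unop.left) => chiGVal hf W.unop.hom y.down.toMul)
      fun y y' => chiGVal_mul hf _ _ _)
     naturality := fun W W' m => AddCommGrpCat.ext fun (y : (Gas).obj.obj (op W.unop.left)) => by
       refine Eq.trans ?_ (map_chiGVal hf m.unop.left W.unop.hom y.down.toMul).symm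
       show chiGVal hf W'.unop.hom (m.unop.left ≫ y.down.toMul) = _
       rw [Over.w m.unop] }⟩

theorem chiG_congr (hf : IsPolyChar f) (hg : IsPolyChar g) (h : f = g) : chiG hf = chiG hg := by
  subst h
  rfl

theorem map_chiG {T' : Over S} (k : T' ⟶ T) (hf : IsPolyChar f) :
    (D S).obj.map k.op (chiG hf) = chiG (hf.map k.left.appTop.hom) := by
  refine hom_ext_val fun Z z x => ?_
  show chiGVal hf (z ≫ k) x = chiGVal (hf.map k.left.appTop.hom) z x
  refine congrArg (gSec Z) (Units.ext ?_)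
  show f.eval₂ (z ≫ k).left.appTop.hom _ = (f.map k.left.appTop.hom).eval₂ z.left.appTop.hom _
  rw [Polynomial.eval₂_map]
  rfl

end chiG

/-- A character is determined by its homomorphism. -/
theorem chi_injective {A : CommRingCat.{u}} (b : Spec A ⟶ S) {C : Type u} [CommRing C] [Algebra A C]
    {f g : Polynomial C} (hf : IsPolyChar f) (hg : IsPolyChar g) (h : chi b hf = chi b hg) : f = g := by
  let cX : C →ₐ[A] Polynomial C := IsScalarTower.toAlgHom A C (Polynomial C)
  have h1 : chiVal b hf (amap b cX) (gaP b _ Polynomial.X) = chiVal b hg (amap b cX) (gaP b _ Polynomial.X) :=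
    congrArg (fun ψ => val ψ (amap b cX) (gaP b _ Polynomial.X)) h
  have h2 : f.eval₂ (ghom b (amap b cX)) (Red.gaFn (gaP b _ Polynomial.X)) =
      g.eval₂ (ghom b (amap b cX)) (Red.gaFn (gaP b _ Polynomial.X)) :=
    congrArg Units.val ((gSec_bijective _).1 h1)
  have h3 := (fn_bijective b _).1 ((eval₂RingHom_amap b cX Polynomial.X f).symm.trans
    (h2.trans (eval₂RingHom_amap b cX Polynomial.X g)))
  exact (Polynomial.aeval_X_left_apply f).symm.trans (h3.trans (Polynomial.aeval_X_left_apply g))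

variable (p : ℕ) [hpr : Fact p.Prime] (hp : (p : Γ(S, ⊤)) = 0)

include hp in
omit hpr in
theorem natCast_sections (T : Over S) : (p : Γ(T.left, ⊤)) = 0 := by
  rw [← map_natCast T.hom.appTop.hom, hp, map_zero]

include hp in
omit hpr in
theorem natCast_algebra {A : CommRingCat.{u}} (b : Spec A ⟶ S) (C : Type u) [CommRing C] [Algebra A C] :
    (p : C) = 0 := by
  have h := congrArg (fun s => (Scheme.ΓSpecIso A).hom (b.appTop s)) hp
  have h2 : (p : A) = 0 := by simpa using h
  rw [← map_natCast (algebraMap A C), h2, map_zero]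

/-- The homomorphism attached to a function killed by Frobenius. -/
def sig {T : Over S} (e : Γ(T.left, ⊤)) (he : e ^ p = 0) : (D S).obj.obj (op T) :=
  chiG (isPolyChar_E p (natCast_sections p hp T) he 0)

theorem sig_congr {T : Over S} {e e' : Γ(T.left, ⊤)} (he : e ^ p = 0) (he' : e' ^ p = 0) (h : e = e') :
    sig p hp e he = sig p hp e' he' := by
  subst h
  rfl

theorem map_sig {T T' : Over S} (k : T' ⟶ T) (e : Γ(T.left, ⊤)) (he : e ^ p = 0) :
    (D S).obj.map k.op (sig p hp e he) = sig p hp (k.left.appTop e) (by rw [← map_pow, he, map_zero]) := by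
  refine (map_chiG k _).trans (chiG_congr _ _ ?_)
  exact map_E p (natCast_sections p hp T) k.left.appTop.hom e 0

theorem sig_fn {A : CommRingCat.{u}} (b : Spec A ⟶ S) (C : Type u) [CommRing C] [Algebra A C] (t : C)
    (ht : t ^ p = 0) (he : (fn b C t) ^ p = 0) :
    sig p hp (fn b C t) he = chi b (isPolyChar_E p (natCast_algebra p hp b C) ht 0) := by
  refine hom_ext_val fun Z z x => ?_
  show chiGVal (isPolyChar_E p (natCast_sections p hp (ao b C)) he 0) z x =
    chiVal b (isPolyChar_E p (natCast_algebra p hp b C) ht 0) z x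
  refine congrArg (gSec Z) (Units.ext ?_)
  show (E p (fn b C t) 0).eval₂ z.left.appTop.hom _ = (E p t 0).eval₂ (ghom b z) _
  rw [← map_E p (natCast_algebra p hp b C) (fn b C) t 0, Polynomial.eval₂_map]
  rfl

variable (F : Red.Ga S ⟶ Red.Ga S) [IsMonHom F]
  (hF : ∀ (T : Over S) (x : T ⟶ Red.Ga S), Red.gaFn (x ≫ F) = Red.gaFn x ^ p)

/-- Frobenius on the sheaf. -/
abbrev Ff : Gas ⟶ Gas := CGrpSh.ptsMap Scheme.fppfPrecoverage F

/-- The dual of Frobenius. -/
abbrev Fd : D S ⟶ D S := dualMap Jf (G S) (Ff F)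

include hp hF in
/-- The dual of Frobenius raises the variable to the `p`-th power. -/
theorem Fd_chi {A : CommRingCat.{u}} (b : Spec A ⟶ S) {C : Type u} [CommRing C] [Algebra A C]
    {f : Polynomial C} (hf : IsPolyChar f) :
    (Fd F).hom.app (op (ao b C)) (chi b hf) = chi b (hf.expand p (natCast_algebra p hp b C)) := by
  refine (dualMap_app Jf (G S) (Ff F) (ao b C) (chi b hf)).trans (hom_ext_val fun Z z x => ?_)
  show chiVal b hf z (x ≫ F) = chiVal b (hf.expand p (natCast_algebra p hp b C)) z x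
  refine congrArg (gSec Z) (Units.ext ?_)
  show f.eval₂ (ghom b z) (Red.gaFn (x ≫ F)) = (Polynomial.expand C p f).eval₂ (ghom b z) (Red.gaFn x)
  rw [eval₂_expand, hF]

include hp hF in
theorem mono_Fd : Mono (Fd F) := by
  refine (sheafToPresheaf _ _).mono_of_mono_map ?_
  refine (NatTrans.mono_iff_mono_app _).2 fun U => (AddCommGrpCat.mono_iff_injective _).2
    ((injective_iff_map_eq_zero _).2 fun φ hφ => ?_)
  refine eq_of_cover (D S) _ (affine_cover_mem U.unop) fun x => ?_
  obtain ⟨f, hf, hfe⟩ := exists_chi_eq (U.unop.left.affineCover.f x ≫ U.unop.hom)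
    ((D S).obj.map ((topIso (U.unop.left.affineCover.f x ≫ U.unop.hom)).hom ≫
      Over.homMk (U.unop.left.affineCover.f x) rfl).op φ)
  set b := U.unop.left.affineCover.f x ≫ U.unop.hom
  have h1 : chi b (hf.expand p (natCast_algebra p hp b _)) = chi b IsPolyChar.one := by
    refine (Fd_chi p hp F hF b hf).symm.trans ((congrArg _ hfe).trans ?_)
    refine (NatTrans.naturality_apply (Fd F).hom _ φ).trans ?_
    exact ((congrArg _ hφ).trans (map_zero _)).trans (chi_one b).symm
  have h2 : f = 1 := Polynomial.expand_injective hpr.out.pos ((chi_injective b _ _ h1).trans (map_one _).symm)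
  exact hfe.symm.trans ((chi_congr b hf IsPolyChar.one h2).trans ((chi_one b).trans (map_zero _).symm))

include hp hF in
/-- Frobenius of the additive group is surjective. -/
theorem epi_Ff : Epi (Ff F) := by
  suffices Sheaf.IsLocallySurjective (Ff F) from
    (Sheaf.isLocallySurjective_iff_epi' AddCommGrpCat.{u + 1} _).1 this
  refine ⟨fun {U} s => ?_⟩
  refine (Jf).transitive (affine_cover_mem U) _ fun W m hm => ?_
  obtain ⟨x, a, rfl⟩ := (Sieve.mem_ofArrows_iff _ _ m).1 hm
  rw [Sieve.pullback_comp]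
  refine (Jf).pullback_stable a ?_
  let b := U.left.affineCover.f x ≫ U.hom
  let k : top b ⟶ U := (topIso b).hom ≫ Over.homMk (U.left.affineCover.f x) rfl
  show (Presheaf.imageSieve (Ff F).hom s).pullback k ∈ Jf (top b)
  let s₀ : (Gas).obj.obj (op (top b)) := (Gas).obj.map k.op s
  obtain ⟨r, hr⟩ := exists_gaP b _ s₀.down.toMul
  obtain ⟨R', _, _, hffp, hroot⟩ := GaDualLib.exists_roots p hpr.out.pos {r}
  obtain ⟨w, hw⟩ := hroot r (Finset.mem_singleton_self r)
  obtain ⟨hfl, hlf, -⟩ := props_of_ffp hffp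
  haveI := hffp.ff
  have hcov := mem_single b (Algebra.ofId _ R') hfl hlf
    (fun q => PrimeSpectrum.comap_surjective_of_faithfullyFlat q)
  refine GrothendieckTopology.superset_covering _ ?_ hcov
  rw [Sieve.ofArrows, Sieve.generate_le_iff]
  rintro _ _ ⟨⟩
  refine ⟨ptSec (gaP b R' w), ?_⟩
  show ptSec (gaP b R' w ≫ F) = (Gas).obj.map (toBase b R' ≫ k).op s
  rw [← GmExtLib.map_map]
  show ptSec (gaP b R' w ≫ F) = (Gas).obj.map (toBase b R').op s₀
  have hs₀ : s₀ = ptSec (gaP b _ r) := by rw [hr]; rfl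
  rw [hs₀, map_ptSec]
  refine congrArg ptSec (GaPts.gaFn_injective ?_)
  show Red.gaFn _ = Red.gaFn _
  rw [amap_gaP, hF, gaFn_gaP, gaFn_gaP, ← map_pow, hw]
  rfl

/-- The cokernel of the dual of Frobenius. -/
abbrev Qd : BigSite.Ab Scheme.fppfPrecoverage S := cokernel (Fd F)

/-- The projection to the cokernel. -/
abbrev πd : D S ⟶ Qd F := cokernel.π (Fd F)

theorem πd_Fd {T : Over S} (φ : (D S).obj.obj (op T)) : (πd F).hom.app (op T) ((Fd F).hom.app (op T) φ) = 0 := by
  show (Fd F ≫ πd F).hom.app (op T) φ = 0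
  rw [cokernel.condition]
  rfl

/-- Composition of homomorphisms of sheaves on sections. -/
theorem app_app {X Y Z : BigSite.Ab Scheme.fppfPrecoverage S} (f : X ⟶ Y) (g : Y ⟶ Z) (U : (Over S)ᵒᵖ)
    (x : X.obj.obj U) : g.hom.app U (f.hom.app U x) = (f ≫ g).hom.app U x := rfl

theorem gaFn_map {T T' : Over S} (k : T' ⟶ T) (y : (Gas).obj.obj (op T)) :
    Red.gaFn ((Gas).obj.map k.op y).down.toMul = k.left.appTop (Red.gaFn y.down.toMul) :=
  GaPts.gaFn_comp k y.down.toMul

include hF in
/-- The function of a section killed by Frobenius. -/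
theorem gaFn_pow_eq_zero (T : Over S) (x : (kernel (Ff F)).obj.obj (op T)) :
    Red.gaFn ((kernel.ι (Ff F)).hom.app (op T) x).down.toMul ^ p = 0 := by
  have h : (Ff F).hom.app (op T) ((kernel.ι (Ff F)).hom.app (op T) x) = 0 := by
    rw [app_app, kernel.condition]
    rfl
  have h2 := congrArg (fun y : (Gas).obj.obj (op T) => Red.gaFn y.down.toMul) h
  exact ((hF T _).symm.trans h2).trans (GaPts.gaFn_one (T := T))

include hp hF in
theorem exists_Fd_eq (T : Over S) (φ : (D S).obj.obj (op T)) (h : (πd F).hom.app (op T) φ = 0) :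
    ∃ ψ, (Fd F).hom.app (op T) ψ = φ := by
  haveI := mono_Fd p hp F hF
  exact exists_preimage_app
    (C := ShortComplex.mk (Fd F) (πd F) (cokernel.condition _))
    { exact := ShortComplex.exact_of_g_is_cokernel _ (cokernelIsCokernel (Fd F)) } (op T) φ h

include hp hF in
/-- Homomorphisms decompose modulo the image of the dual of Frobenius. -/
theorem πd_chi {A : CommRingCat.{u}} (b : Spec A ⟶ S) {C : Type u} [CommRing C] [Algebra A C]
    {f : Polynomial C} (hf : IsPolyChar f) :
    ∃ he : f.coeff 1 ^ p = 0, (πd F).hom.app (op (ao b C)) (chi b hf) =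
      (πd F).hom.app (op (ao b C)) (chi b (isPolyChar_E p (natCast_algebra p hp b C) he 0)) := by
  obtain ⟨he, g, hg, hfe⟩ := exists_decomp p (natCast_algebra p hp b C) hf
  refine ⟨he, ?_⟩
  have hE := isPolyChar_E p (natCast_algebra p hp b C) he 0
  have hx := hg.expand p (natCast_algebra p hp b C)
  rw [chi_congr b hf (hE.mul hx) hfe, chi_mul b hE hx, ← Fd_chi p hp F hF b hg]
  exact (map_add _ _ _).trans ((congrArg _ (πd_Fd F _)).trans (add_zero _))

include hp hF in
/-- Additivity over an affine base. -/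
theorem πd_chi_E_add {A : CommRingCat.{u}} (b : Spec A ⟶ S) {r r' : A} (h0 : r ^ p = 0) (h0' : r' ^ p = 0)
    (hs : (r + r') ^ p = 0) :
    (πd F).hom.app (op (ao b A)) (chi b (isPolyChar_E p (natCast_algebra p hp b A) hs 0)) =
      (πd F).hom.app (op (ao b A)) (chi b (isPolyChar_E p (natCast_algebra p hp b A) h0 0)) +
        (πd F).hom.app (op (ao b A)) (chi b (isPolyChar_E p (natCast_algebra p hp b A) h0' 0)) := by
  have hE := isPolyChar_E p (natCast_algebra p hp b A) h0 0
  have hE' := isPolyChar_E p (natCast_algebra p hp b A) h0' 0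
  obtain ⟨he'', h⟩ := πd_chi p hp F hF b (hE.mul hE')
  refine Eq.trans ?_ ((congrArg _ (chi_mul b hE hE')).trans (map_add _ _ _))
  refine Eq.trans ?_ h.symm
  refine congrArg _ (chi_congr b _ _ (congrArg (E p · 0) ?_))
  rw [coeff_one_mul (coeff_zero_of_char hE) (coeff_zero_of_char hE'), coeff_one_E, coeff_one_E]

include hp hF in
theorem πd_sig_add_affine {A : CommRingCat.{u}} (b : Spec A ⟶ S) (e e' e'' : Γ((top b).left, ⊤)) (he : e ^ p = 0)
    (he' : e' ^ p = 0) (he'' : e'' ^ p = 0) (h : e'' = e + e') :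
    (πd F).hom.app (op (top b)) (sig p hp e'' he'') =
      (πd F).hom.app (op (top b)) (sig p hp e he) + (πd F).hom.app (op (top b)) (sig p hp e' he') := by
  obtain ⟨r, rfl⟩ := (fn_bijective b A).2 e
  obtain ⟨r', rfl⟩ := (fn_bijective b A).2 e'
  obtain rfl : e'' = fn b A (r + r') := h.trans (map_add (fn b A) r r').symm
  have h0 : r ^ p = 0 := (fn_bijective b A).1 (((map_pow _ _ _).trans he).trans (map_zero _).symm)
  have h0' : r' ^ p = 0 := (fn_bijective b A).1 (((map_pow _ _ _).trans he').trans (map_zero _).symm)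
  have hs : (r + r') ^ p = 0 := (fn_bijective b A).1 (((map_pow _ _ _).trans he'').trans (map_zero _).symm)
  rw [sig_fn p hp b A r h0, sig_fn p hp b A r' h0', sig_fn p hp b A _ hs]
  exact πd_chi_E_add p hp F hF b h0 h0' hs

theorem πd_sig_map {T T' : Over S} (k : T' ⟶ T) (e : Γ(T.left, ⊤)) (he : e ^ p = 0) :
    (Qd F).obj.map k.op ((πd F).hom.app (op T) (sig p hp e he)) =
      (πd F).hom.app (op T') (sig p hp (k.left.appTop e) (by rw [← map_pow, he, map_zero])) :=
  (NatTrans.naturality_apply (πd F).hom k.op _).symm.trans (congrArg _ (map_sig p hp k e he))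

include hp hF in
theorem πd_sig_add {T : Over S} {e e' : Γ(T.left, ⊤)} (he : e ^ p = 0) (he' : e' ^ p = 0) :
    (πd F).hom.app (op T) (sig p hp (e + e') (by rw [add_pow_p p (natCast_sections p hp T), he, he', add_zero])) =
      (πd F).hom.app (op T) (sig p hp e he) + (πd F).hom.app (op T) (sig p hp e' he') := by
  refine eq_of_cover (Qd F) _ (affine_cover_mem T) fun x => ?_
  refine Eq.trans ?_ (map_add _ _ _).symm
  refine (πd_sig_map p hp F _ _ _).trans (Eq.trans ?_
    (congrArg₂ (· + ·) (πd_sig_map p hp F _ e he).symm (πd_sig_map p hp F _ e' he').symm))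
  exact πd_sig_add_affine p hp F hF _ _ _ _ _ _ _ (map_add _ e e')

include hp hF in
theorem eq_zero_of_πd_sig {A : CommRingCat.{u}} (b : Spec A ⟶ S) (e : Γ((top b).left, ⊤)) (he : e ^ p = 0)
    (h : (πd F).hom.app (op (top b)) (sig p hp e he) = 0) : e = 0 := by
  obtain ⟨r, rfl⟩ := (fn_bijective b A).2 e
  have h0 : r ^ p = 0 := (fn_bijective b A).1 (((map_pow _ _ _).trans he).trans (map_zero _).symm)
  rw [sig_fn p hp b A r h0] at h
  obtain ⟨ψ, hψ⟩ := exists_Fd_eq p hp F hF _ _ h
  obtain ⟨g, hg, rfl⟩ := exists_chi_eq b ψ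
  rw [Fd_chi p hp F hF b hg] at hψ
  have h2 := congrArg (Polynomial.coeff · 1) (chi_injective b _ _ hψ)
  simp only [coeff_one_expand, coeff_one_E] at h2
  rw [← h2, map_zero]

include hp hF in
theorem exists_kernel_πd {A : CommRingCat.{u}} (b : Spec A ⟶ S) (φ : (D S).obj.obj (op (top b))) :
    ∃ (a : (kernel (Ff F)).obj.obj (op (top b))) (he : Red.gaFn ((kernel.ι (Ff F)).hom.app (op (top b)) a).down.toMul ^ p = 0),
      (πd F).hom.app (op (top b)) (sig p hp _ he) = (πd F).hom.app (op (top b)) φ := by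
  obtain ⟨f, hf, rfl⟩ := exists_chi_eq b φ
  obtain ⟨he, hπ⟩ := πd_chi p hp F hF b hf
  obtain ⟨a, ha⟩ : ∃ a, (kernel.ι (Ff F)).hom.app (op (top b)) a = ptSec (gaP b A (f.coeff 1)) := by
    haveI := epi_Ff p hp F hF
    refine exists_preimage_app (C := ShortComplex.mk (kernel.ι (Ff F)) (Ff F) (kernel.condition _))
      { exact := ShortComplex.exact_of_f_is_kernel _ (kernelIsKernel (Ff F)) } _ _ ?_
    refine ULift.ext _ _ (congrArg Additive.ofMul (GaPts.gaFn_injective ?_))
    show Red.gaFn (gaP b A (f.coeff 1) ≫ F) = Red.gaFn (1 : top b ⟶ Red.Ga S)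
    rw [hF, gaFn_gaP, ← map_pow, he, map_zero]
    exact GaPts.gaFn_one.symm
  have hfa : Red.gaFn ((kernel.ι (Ff F)).hom.app (op (top b)) a).down.toMul = fn b A (f.coeff 1) :=
    (congrArg (fun z : (Gas).obj.obj (op (top b)) => Red.gaFn z.down.toMul) ha).trans (gaFn_gaP b A _)
  refine ⟨a, by rw [hfa, ← map_pow, he, map_zero], ?_⟩
  rw [hπ, ← sig_fn p hp b A _ he (by rw [← map_pow, he, map_zero])]
  exact congrArg _ (sig_congr p hp _ _ hfa)

include hp hF in
/-- The cokernel of the dual of Frobenius is the kernel of Frobenius. -/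
theorem nonempty_kernel_iso_Qd : Nonempty (kernel (Ff F) ≅ Qd F) := by
  let fnc : ∀ (T : Over S), (kernel (Ff F)).obj.obj (op T) → Γ(T.left, ⊤) := fun T x =>
    Red.gaFn ((kernel.ι (Ff F)).hom.app (op T) x).down.toMul
  have hadd : ∀ (T : Over S) (x y : (kernel (Ff F)).obj.obj (op T)), fnc T (x + y) = fnc T x + fnc T y := fun T x y =>
    (congrArg (fun z : (Gas).obj.obj (op T) => Red.gaFn z.down.toMul) (map_add _ x y)).trans (GaPts.gaFn_mul _ _)
  have hnat : ∀ (T T' : Over S) (k : T' ⟶ T) (x : (kernel (Ff F)).obj.obj (op T)),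
      fnc T' ((kernel (Ff F)).obj.map k.op x) = k.left.appTop (fnc T x) := fun T T' k x =>
    (congrArg (fun z : (Gas).obj.obj (op T') => Red.gaFn z.down.toMul)
      (NatTrans.naturality_apply (kernel.ι (Ff F)).hom k.op x)).trans (gaFn_map k _)
  let σ : kernel (Ff F) ⟶ Qd F :=
    ⟨{ app := fun T => AddCommGrpCat.ofHom (AddMonoidHom.mk'
          (fun x => (πd F).hom.app T (sig p hp (fnc T.unop x) (gaFn_pow_eq_zero p F hF T.unop x)))
          fun x y => by
            rw [← πd_sig_add p hp F hF]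
            exact congrArg _ (sig_congr p hp _ _ (hadd T.unop x y)))
       naturality := fun T T' k => AddCommGrpCat.ext fun x => by
         show (πd F).hom.app T' (sig p hp _ _) = (Qd F).obj.map k ((πd F).hom.app T (sig p hp _ _))
         rw [← NatTrans.naturality_apply (πd F).hom, show k = k.unop.op from rfl, map_sig]
         exact congrArg _ (sig_congr p hp _ _ (hnat _ _ k.unop x)) }⟩
  haveI : Mono σ := by
    refine (sheafToPresheaf _ _).mono_of_mono_map ?_
    refine (NatTrans.mono_iff_mono_app _).2 fun U => (AddCommGrpCat.mono_iff_injective _).2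
      ((injective_iff_map_eq_zero _).2 fun a ha => ?_)
    apply injective_app (kernel.ι (Ff F)) U
    rw [map_zero]
    refine eq_of_cover Gas _ (affine_cover_mem U.unop) fun x => ?_
    set b := U.unop.left.affineCover.f x ≫ U.unop.hom
    set k : top b ⟶ U.unop := (topIso b).hom ≫ Over.homMk (U.unop.left.affineCover.f x) rfl
    rw [map_zero, ← NatTrans.naturality_apply (kernel.ι (Ff F)).hom]
    refine ULift.ext _ _ (congrArg Additive.ofMul (GaPts.gaFn_injective ?_))
    refine Eq.trans ?_ (GaPts.gaFn_one (T := top b)).symm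
    refine eq_zero_of_πd_sig p hp F hF b _ (gaFn_pow_eq_zero p F hF _ ((kernel (Ff F)).obj.map k.op a)) ?_
    exact (NatTrans.naturality_apply σ.hom k.op a).trans ((congrArg _ ha).trans (map_zero _))
  haveI : Epi σ := by
    refine ⟨fun {Z} r r' h => ?_⟩
    refine (cancel_epi (πd F)).1 (Sheaf.hom_ext (NatTrans.ext (funext fun U => AddCommGrpCat.ext fun φ => ?_)))
    refine eq_of_cover Z _ (affine_cover_mem U.unop) fun x => ?_
    refine ((NatTrans.naturality_apply (πd F ≫ r).hom _ φ).symm.trans ?_).trans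
      (NatTrans.naturality_apply (πd F ≫ r').hom _ φ)
    obtain ⟨a, he, hπ⟩ := exists_kernel_πd p hp F hF (U.unop.left.affineCover.f x ≫ U.unop.hom)
      ((D S).obj.map ((topIso (U.unop.left.affineCover.f x ≫ U.unop.hom)).hom ≫
        Over.homMk (U.unop.left.affineCover.f x) rfl).op φ)
    refine ((congrArg (r.hom.app _) hπ).symm.trans ?_).trans (congrArg (r'.hom.app _) hπ)
    exact congrArg (fun j : kernel (Ff F) ⟶ Z => j.hom.app _ a) h
  haveI := isIso_of_mono_of_epi σ
  exact ⟨asIso σ⟩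

include hp hF in
/-- The dual of Frobenius is bijective in high cohomological degrees. -/
theorem bijective_H_map_Fd [IsAffine S] (i : ℕ) (hi : 2 < i) :
    Function.Bijective (Sheaf.H.map (Fd F) i) := by
  haveI := mono_Fd p hp F hF
  haveI := epi_Ff p hp F hF
  let e := (nonempty_kernel_iso_Qd p hp F hF).some
  have hA : (ShortComplex.mk (kernel.ι (Ff F)) (Ff F) (kernel.condition _)).ShortExact :=
    { exact := ShortComplex.exact_of_f_is_kernel _ (kernelIsKernel (Ff F)) }
  have hD : (ShortComplex.mk (Fd F) (πd F) (cokernel.condition _)).ShortExact :=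
    { exact := ShortComplex.exact_of_g_is_cokernel _ (cokernelIsCokernel (Fd F)) }
  have hα : ∀ j, 2 ≤ j → ∀ x : Sheaf.H.{u + 1} (kernel (Ff F)) j, x = 0 := fun j hj x => by
    obtain ⟨j', rfl⟩ : ∃ j', j = j' + 1 := ⟨j - 1, by omega⟩
    obtain ⟨y, rfl⟩ := Ext.covariant_sequence_exact₁ _ hA x
      ((BigCohLib.subsingleton_H_Ga (S := S) (Nat.succ_pos j')).elim _ _) rfl
    haveI := BigCohLib.subsingleton_H_Ga (S := S) (i := j') (by omega)
    rw [show y = 0 from (BigCohLib.subsingleton_H_Ga (S := S) (i := j') (by omega)).elim _ _, Ext.zero_comp]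
  have hQ : ∀ j, 2 ≤ j → ∀ x : Sheaf.H.{u + 1} (Qd F) j, x = 0 := fun j hj x => by
    have h1 := hα j hj (x.comp (Ext.mk₀ e.inv) (add_zero j))
    have h2 := congrArg (fun z => Ext.comp z (Ext.mk₀ e.hom) (add_zero j)) h1
    simp only [Ext.comp_assoc_of_third_deg_zero, Ext.mk₀_comp_mk₀, Iso.inv_hom_id, Ext.comp_mk₀_id,
      Ext.zero_comp] at h2
    exact h2
  refine ⟨(injective_iff_map_eq_zero _).2 fun x hx => ?_, fun x => ?_⟩
  · obtain ⟨j, rfl⟩ : ∃ j, i = j + 1 := ⟨i - 1, by omega⟩
    obtain ⟨y, rfl⟩ := Ext.covariant_sequence_exact₁ _ hD x hx rfl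
    rw [hQ j (by omega) y, Ext.zero_comp]
  · exact Ext.covariant_sequence_exact₂ _ hD x (hQ i (by omega) _)

end GaBidualLib
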