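import Groth.Agent.GaBidualLib.Alg
import Groth.Agent.GmExtLib.ExtShZero

/-!
# The double dual of the additive group from the algebra of its characters
-/

set_option autoImplicit false
set_option maxHeartbeats 1600000
universe u

open CategoryTheory CategoryTheory.Limits AlgebraicGeometry Opposite
open AdeqLib AdeqModLib GmExtLib
open Groth.Agent
open scoped MonObj

noncomputable section

namespace GaBidualLib

variable {S : Scheme.{u}}

local notation "Jf" => QuotSh.J Scheme.fppfPrecoverage S
local notation "Gas" => CGrpSh2.Ga Scheme.fppfPrecoverage S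

/-- The dual sheaf of the additive group. -/
abbrev D (S : Scheme.{u}) : BigSite.Ab Scheme.fppfPrecoverage S :=
  CGrpSh2.dualSh Scheme.fppfPrecoverage (CGrpSh2.Ga Scheme.fppfPrecoverage S)

/-- Sections agreeing on a cover agree. -/
theorem eq_of_cover (P : BigSite.Ab Scheme.fppfPrecoverage S) {Z : Over S} {I : Type u} {Y : I → Over S}
    (e : ∀ i, Y i ⟶ Z) (he : Sieve.ofArrows Y e ∈ Jf Z) {x y : P.obj.obj (op Z)}
    (h : ∀ i, P.obj.map (e i).op x = P.obj.map (e i).op y) : x = y := by
  have hs := (isSheaf_iff_isSheaf_of_type _ _).1 ((sheafCompose Jf (forget AddCommGrpCat.{u + 1})).obj P).property _ he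
  refine hs.isSeparatedFor.ext fun V m hm => ?_
  obtain ⟨i, a, rfl⟩ := (Sieve.mem_ofArrows_iff _ _ m).1 hm
  show P.obj.map (a ≫ e i).op x = P.obj.map (a ≫ e i).op y
  rw [← GmExtLib.map_map, ← GmExtLib.map_map, h i]

variable {A : CommRingCat.{u}} (b : Spec A ⟶ S)

theorem ghom_precomp {Z Z' : Over S} {C : Type u} [CommRing C] [Algebra A C] (φ : Z' ⟶ Z) (z : Z ⟶ ao b C) (c : C) :
    ghom b (φ ≫ z) c = φ.left.appTop (ghom b z c) := rfl

theorem ghom_amap_eq {C C' : Type u} [CommRing C] [Algebra A C] [CommRing C'] [Algebra A C'] (φ : C →ₐ[A] C')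
    (c : C) : ghom b (amap b φ) c = fn b C' (φ c) :=
  (appTop_eq_ghom b (amap b φ) c).symm.trans (appTop_fn b φ c)

theorem ghom_id {C : Type u} [CommRing C] [Algebra A C] (c : C) : ghom b (𝟙 (ao b C)) c = fn b C c := rfl

/-- An affine piece over the affine base is the affine object of an algebra. -/
theorem exists_piece {Z : Over S} (z : Z ⟶ top b) {R : CommRingCat.{u}} (f : Spec R ⟶ Z.left) :
    ∃ (_ : Algebra A R) (e : ao b R ⟶ Z), e ≫ z = toBase b R ∧ e.left = f := by
  let π : A ⟶ R := Spec.preimage (f ≫ z.left)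
  letI : Algebra A R := π.hom.toAlgebra
  have hπ : Spec.map π = f ≫ z.left := Spec.map_preimage _
  have hw : f ≫ Z.hom = Spec.map π ≫ b := by
    rw [hπ]
    refine ((congrArg (f ≫ ·) (Over.w z).symm).trans (Category.assoc _ _ _).symm).trans ?_
    refine congrArg ((f ≫ z.left) ≫ ·) ?_
    show Spec.map (CommRingCat.ofHom (algebraMap A A)) ≫ b = b
    rw [Algebra.algebraMap_self, CommRingCat.ofHom_id, Spec.map_id]
    exact Category.id_comp b
  exact ⟨inferInstance, Over.homMk f hw, Over.OverMorphism.ext hπ.symm, rfl⟩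

/-- An object over the affine base is covered by affine objects of algebras. -/
theorem exists_affine_cover {Z : Over S} (z : Z ⟶ top b) :
    ∃ (I : Type u) (C : I → Type u) (_ : ∀ i, CommRing (C i)) (_ : ∀ i, Algebra A (C i)) (e : ∀ i, ao b (C i) ⟶ Z),
      (∀ i, e i ≫ z = toBase b (C i)) ∧ Sieve.ofArrows (fun i => ao b (C i)) e ∈ Jf Z := by
  choose alg e he hl using fun i => exists_piece b z (Z.left.affineOpenCover.f i)
  refine ⟨_, fun i => Z.left.affineOpenCover.X i, fun _ => inferInstance, alg, e, he, ?_⟩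
  refine ofArrows_mem _ ((Scheme.ofArrows_mem_precoverage_iff _).2 ⟨fun y => ?_, fun i => ?_⟩)
  · obtain ⟨j, w, hw⟩ := Z.left.affineOpenCover.openCover.exists_eq y
    exact ⟨j, w, by rw [hl]; exact hw⟩
  · change (@Flat ⊓ @LocallyOfFinitePresentation : MorphismProperty Scheme.{u}) (e i).left
    rw [hl]
    exact ⟨inferInstanceAs (Flat (Z.left.affineOpenCover.openCover.f i)),
      inferInstanceAs (LocallyOfFinitePresentation (Z.left.affineOpenCover.openCover.f i))⟩

section chi

variable {C : Type u} [CommRing C] [Algebra A C] {f g : Polynomial C}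

/-- The value of the homomorphism attached to a character. -/
def chiVal (hf : IsPolyChar f) {Z : Over S} (z : Z ⟶ ao b C) (x : Z ⟶ Red.Ga S) : (G S).obj.obj (op Z) :=
  gSec Z (hf.isUnit_eval₂ (ghom b z) (Red.gaFn x)).unit

theorem map_chiVal (hf : IsPolyChar f) {Z Z' : Over S} (φ : Z' ⟶ Z) (z : Z ⟶ ao b C) (x : Z ⟶ Red.Ga S) :
    (G S).obj.map φ.op (chiVal b hf z x) = chiVal b hf (φ ≫ z) (φ ≫ x) := by
  refine (map_gSec _ _).trans (congrArg (gSec Z') (Units.ext ?_))
  show φ.left.appTop.hom (f.eval₂ (ghom b z) (Red.gaFn x)) = f.eval₂ (ghom b (φ ≫ z)) (Red.gaFn (φ ≫ x))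
  rw [Polynomial.hom_eval₂, GaPts.gaFn_comp]
  rfl

theorem chiVal_mul (hf : IsPolyChar f) {Z : Over S} (z : Z ⟶ ao b C) (x y : Z ⟶ Red.Ga S) :
    chiVal b hf z (x * y) = chiVal b hf z x + chiVal b hf z y := by
  refine Eq.trans (congrArg (gSec Z) (Units.ext ?_)) (gSec_mul Z _ _)
  show f.eval₂ (ghom b z) (Red.gaFn (x * y)) = _
  rw [GaPts.gaFn_mul, hf.eval₂_add]
  rfl

/-- The homomorphism attached to a character. -/
def chi (hf : IsPolyChar f) : (Gas).over (ao b C) ⟶ (G S).over (ao b C) :=
  ⟨{ app := fun W => AddCommGrpCat.ofHom (AddMonoidHom.mk'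
      (fun y : (Gas).obj.obj (op W.unop.left) => chiVal b hf W.unop.hom y.down.toMul)
      fun y y' => chiVal_mul b hf _ _ _)
     naturality := fun W W' m => AddCommGrpCat.ext fun (y : (Gas).obj.obj (op W.unop.left)) => by
       refine Eq.trans ?_ (map_chiVal b hf m.unop.left W.unop.hom y.down.toMul).symm
       show chiVal b hf W'.unop.hom (m.unop.left ≫ y.down.toMul) = _
       rw [Over.w m.unop] }⟩

theorem chi_app (hf : IsPolyChar f) (W : (Over (ao b C))ᵒᵖ) (y : (Gas).obj.obj (op W.unop.left)) :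
    (chi b hf).hom.app W y = chiVal b hf W.unop.hom y.down.toMul := rfl

theorem hom_ext_val {T : Over S} {Q : BigSite.Ab Scheme.fppfPrecoverage S} {ψ ψ' : (Gas).over T ⟶ Q.over T}
    (h : ∀ (Z : Over S) (z : Z ⟶ T) (x : Z ⟶ Red.Ga S), val ψ z x = val ψ' z x) : ψ = ψ' :=
  Sheaf.hom_ext (NatTrans.ext (funext fun W => AddCommGrpCat.ext fun y => h W.unop.left W.unop.hom y.down.toMul))

theorem chi_mul (hf : IsPolyChar f) (hg : IsPolyChar g) : chi b (hf.mul hg) = chi b hf + chi b hg := by
  refine hom_ext_val fun Z z x => ?_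
  show chiVal b (hf.mul hg) z x = chiVal b hf z x + chiVal b hg z x
  refine Eq.trans (congrArg (gSec Z) (Units.ext ?_)) (gSec_mul Z _ _)
  exact Polynomial.eval₂_mul _ _

theorem chi_congr (hf : IsPolyChar f) (hg : IsPolyChar g) (h : f = g) : chi b hf = chi b hg := by
  subst h
  rfl

theorem chi_one : chi b (IsPolyChar.one : IsPolyChar (1 : Polynomial C)) = 0 := by
  have h := chi_mul b (IsPolyChar.one : IsPolyChar (1 : Polynomial C)) IsPolyChar.one
  rw [chi_congr b _ IsPolyChar.one (one_mul _)] at h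
  exact add_right_cancel (a := chi b (IsPolyChar.one : IsPolyChar (1 : Polynomial C))) (b := chi b IsPolyChar.one)
    (h.symm.trans (zero_add _).symm)

theorem map_chi {C' : Type u} [CommRing C'] [Algebra A C'] (φ : C →ₐ[A] C') (hf : IsPolyChar f) :
    (D S).obj.map (amap b φ).op (chi b hf) = chi b (hf.map φ.toRingHom) := by
  refine hom_ext_val fun Z z x => ?_
  show chiVal b hf (z ≫ amap b φ) x = chiVal b (hf.map φ.toRingHom) z x
  refine congrArg (gSec Z) (Units.ext ?_)
  show f.eval₂ (ghom b (z ≫ amap b φ)) _ = (f.map φ.toRingHom).eval₂ (ghom b z) _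
  rw [Polynomial.eval₂_map]
  exact congrArg (fun k => f.eval₂ k (Red.gaFn x)) (RingHom.ext fun c => ghom_amap b z φ c)

/-- A homomorphism is determined by the unit attached to the coordinate. -/
theorem val_eq_eval₂ (ψ : (Gas).over (ao b C) ⟶ (G S).over (ao b C)) (v : (Polynomial C)ˣ)
    (hv : aSec b (Polynomial C) v =
      val ψ (amap b (IsScalarTower.toAlgHom A C (Polynomial C))) (gaP b _ Polynomial.X))
    {Z : Over S} (z : Z ⟶ ao b C) (x : Z ⟶ Red.Ga S) :
    val ψ z x = gSec Z (Units.map (Polynomial.eval₂RingHom (ghom b z) (Red.gaFn x)).toMonoidHom v) := by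
  obtain ⟨E, hE⟩ := exists_toAo b (C := Polynomial C) (z ≫ toBase b C)
    (Polynomial.eval₂RingHom (ghom b z) (Red.gaFn x)) fun r => by
      rw [IsScalarTower.algebraMap_apply A C (Polynomial C), Polynomial.algebraMap_eq, Polynomial.coe_eval₂RingHom,
        Polynomial.eval₂_C]
      exact (ghom_amap b z (Algebra.ofId A C) r).symm
  have h1 : E ≫ amap b (IsScalarTower.toAlgHom A C (Polynomial C)) = z := ao_hom_ext b _ _ fun c => by
    rw [ghom_amap, ← appTop_eq_ghom, hE]
    exact Polynomial.eval₂_C _ _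
  have h2 : E ≫ gaP b _ Polynomial.X = x := GaPts.gaFn_injective (by
    show Red.gaFn _ = Red.gaFn _
    rw [GaPts.gaFn_comp, gaFn_gaP, hE]
    exact Polynomial.eval₂_X _ _)
  have h3 := map_val ψ E (amap b (IsScalarTower.toAlgHom A C (Polynomial C))) (gaP b _ Polynomial.X)
  rw [← hv, h1, h2] at h3
  refine h3.symm.trans ((map_gSec _ _).trans (congrArg (gSec Z) (Units.ext ?_)))
  exact hE _

theorem eval₂RingHom_amap {C' : Type u} [CommRing C'] [Algebra A C'] (φ : C →ₐ[A] C') (y : C') (w : Polynomial C) :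
    Polynomial.eval₂RingHom (ghom b (amap b φ)) (Red.gaFn (gaP b C' y)) w = fn b C' (w.eval₂ φ.toRingHom y) := by
  rw [gaFn_gaP, Polynomial.hom_eval₂]
  exact congrArg (fun k => w.eval₂ k (fn b C' y)) (RingHom.ext fun c => ghom_amap_eq b φ c)

theorem gSec_one (T : Over S) : gSec T 1 = 0 :=
  add_right_cancel (b := gSec T 1) ((gSec_mul T 1 1).symm.trans
    ((congrArg (gSec T) (one_mul (1 : (Γ(T.left, ⊤))ˣ))).trans (zero_add (gSec T 1)).symm))

theorem isPolyChar_of_val (ψ : (Gas).over (ao b C) ⟶ (G S).over (ao b C)) (v : (Polynomial C)ˣ)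
    (key : ∀ (Z : Over S) (z : Z ⟶ ao b C) (x : Z ⟶ Red.Ga S),
      val ψ z x = gSec Z (Units.map (Polynomial.eval₂RingHom (ghom b z) (Red.gaFn x)).toMonoidHom v)) :
    IsPolyChar v.val := by
  refine ⟨?_, ?_⟩
  · have h := key _ (amap b (AlgHom.id A C)) (gaP b C 0)
    rw [gaP_zero, val_one, ← gaP_zero b, ← gSec_one] at h
    have h' := congrArg Units.val ((gSec_bijective _).1 h)
    exact (fn_bijective b C).1 (((eval₂RingHom_amap b (AlgHom.id A C) 0 v.val).symm.trans h'.symm).trans
      (map_one (fn b C)).symm)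
  · let cc : C →ₐ[A] MvPolynomial (Fin 2) C := IsScalarTower.toAlgHom A C _
    have h := val_mul ψ (amap b cc) (gaP b _ (MvPolynomial.X 0)) (gaP b _ (MvPolynomial.X 1))
    rw [gaP_add, key, key, key, ← gSec_mul] at h
    have h' := congrArg Units.val ((gSec_bijective _).1 h)
    exact (fn_bijective b _).1 (((eval₂RingHom_amap b cc _ _).symm.trans (h'.trans
      (congrArg₂ (· * ·) (eval₂RingHom_amap b cc _ _) (eval₂RingHom_amap b cc _ _)))).trans (map_mul _ _ _).symm)

/-- Homomorphisms from the additive group are given by characters. -/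
theorem exists_chi_eq (ψ : (Gas).over (ao b C) ⟶ (G S).over (ao b C)) :
    ∃ (f : Polynomial C) (hf : IsPolyChar f), chi b hf = ψ := by
  obtain ⟨v, hv⟩ := (aSec_bijective b (Polynomial C)).2
    (val ψ (amap b (IsScalarTower.toAlgHom A C (Polynomial C))) (gaP b _ Polynomial.X))
  have key := fun (Z : Over S) (z : Z ⟶ ao b C) (x : Z ⟶ Red.Ga S) => val_eq_eval₂ b ψ v hv z x
  refine ⟨v.val, isPolyChar_of_val b ψ v key, hom_ext_val fun Z z x => ?_⟩
  rw [key]
  exact congrArg (gSec Z) (Units.ext rfl)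

end chi

/-- The natural function attached to a point of the double dual. -/
def thetaOf (θ : (D S).over (top b) ⟶ (G S).over (top b)) : Theta A where
  app C _ _ f := by
    classical
    exact if h : IsPolyChar f then
      ((Equiv.ofBijective _ (aSec_bijective b C)).symm (θ.hom.app (op (Over.mk (toBase b C))) (chi b h)) : Cˣ) else 1
  mul {C} _ _ {f g} hf hg := by
    simp only [dif_pos hf, dif_pos hg, dif_pos (hf.mul hg)]
    rw [← Units.val_mul]
    refine congrArg Units.val ((aSec_bijective b C).1 ?_)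
    rw [aSec_mul, Equiv.ofBijective_apply_symm_apply (aSec b C), Equiv.ofBijective_apply_symm_apply (aSec b C),
      Equiv.ofBijective_apply_symm_apply (aSec b C), chi_mul]
    exact map_add _ _ _
  one {C} _ _ := by
    simp only [dif_pos IsPolyChar.one]
    refine (congrArg Units.val ((aSec_bijective b C).1 ?_)).trans Units.val_one
    rw [Equiv.ofBijective_apply_symm_apply (aSec b C), chi_one]
    refine (map_zero _).trans (add_right_cancel (b := aSec b C 1) ?_)
    rw [zero_add, ← aSec_mul, one_mul]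
  natural {C C'} _ _ _ _ φ {f} hf := by
    simp only [dif_pos hf, dif_pos (hf.map φ.toRingHom)]
    show (Units.map φ.toRingHom.toMonoidHom _ : C'ˣ).val = _
    refine congrArg Units.val ((aSec_bijective b C').1 ?_)
    rw [Equiv.ofBijective_apply_symm_apply (aSec b C'), ← map_aSec, Equiv.ofBijective_apply_symm_apply (aSec b C),
      ← map_chi]
    exact (NatTrans.naturality_apply θ.hom (Over.homMk (amap b φ) (amap_toBase b φ) :
      Over.mk (toBase b C') ⟶ Over.mk (toBase b C)).op (chi b hf)).symm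

theorem thetaOf_spec (θ : (D S).over (top b) ⟶ (G S).over (top b)) {C : Type u} [CommRing C] [Algebra A C]
    {f : Polynomial C} (hf : IsPolyChar f) :
    ∃ v : Cˣ, (thetaOf b θ).app C f = v ∧ θ.hom.app (op (Over.mk (toBase b C))) (chi b hf) = aSec b C v := by
  refine ⟨_, dif_pos hf, ?_⟩
  rw [Equiv.ofBijective_apply_symm_apply (aSec b C)]

/-- The value of an evaluation on a character. -/
theorem bidual_chi (a : A) {C : Type u} [CommRing C] [Algebra A C] {f : Polynomial C} (hf : IsPolyChar f) :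
    ((CGrpSh2.toDoubleDual Scheme.fppfPrecoverage Gas).hom.app (op (top b)) (ptSec (gaP b A a))).hom.app
      (op (Over.mk (toBase b C))) (chi b hf) =
      aSec b C (hf.isUnit_eval₂ (RingHom.id C) (algebraMap A C a)).unit := by
  show chiVal b hf (𝟙 (ao b C)) (toBase b C ≫ gaP b A a) = _
  rw [amap_gaP]
  refine congrArg (gSec _) (Units.ext ?_)
  show f.eval₂ (ghom b (𝟙 (ao b C))) (Red.gaFn (gaP b C (algebraMap A C a))) = fn b C (f.eval₂ (RingHom.id C) _)
  rw [gaFn_gaP, Polynomial.hom_eval₂]
  rfl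

theorem dual_hom_ext {θ θ' : (D S).over (top b) ⟶ (G S).over (top b)}
    (h : ∀ (C : Type u) [CommRing C] [Algebra A C] (f : Polynomial C) (hf : IsPolyChar f),
      θ.hom.app (op (Over.mk (toBase b C))) (chi b hf) = θ'.hom.app (op (Over.mk (toBase b C))) (chi b hf)) :
    θ = θ' := by
  refine Sheaf.hom_ext (NatTrans.ext (funext fun W => AddCommGrpCat.ext fun (φ : (D S).obj.obj (op W.unop.left)) => ?_))
  obtain ⟨I, C, _, _, e, he, hcov⟩ := exists_affine_cover b W.unop.hom
  refine eq_of_cover (G S) e hcov fun i => ?_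
  obtain ⟨f, hf, hfe⟩ := exists_chi_eq b ((D S).obj.map (e i).op φ)
  let m : Over.mk (toBase b (C i)) ⟶ W.unop := Over.homMk (e i) (he i)
  refine (NatTrans.naturality_apply θ.hom m.op φ).symm.trans ?_
  refine Eq.trans ?_ (NatTrans.naturality_apply θ'.hom m.op φ)
  show θ.hom.app (op (Over.mk (toBase b (C i)))) ((D S).obj.map (e i).op φ) =
    θ'.hom.app (op (Over.mk (toBase b (C i)))) ((D S).obj.map (e i).op φ)
  rw [← hfe]
  exact h (C i) f hf

/-- Over an affine base the double-duality map is surjective when natural functions are evaluations. -/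
theorem exists_preimage (halg : ∀ Θ : Theta A, ∃ a : A, ∀ (C : Type u) [CommRing C] [Algebra A C] (f : Polynomial C),
      IsPolyChar f → Θ.app C f = f.eval (algebraMap A C a))
    (θ : (D S).over (top b) ⟶ (G S).over (top b)) :
    ∃ s, (CGrpSh2.toDoubleDual Scheme.fppfPrecoverage Gas).hom.app (op (top b)) s = θ := by
  obtain ⟨a, ha⟩ := halg (thetaOf b θ)
  refine ⟨ptSec (gaP b A a), dual_hom_ext b fun C _ _ f hf => ?_⟩
  obtain ⟨v, hv, hv'⟩ := thetaOf_spec b θ hf
  rw [hv']
  refine (bidual_chi b a hf).trans (congrArg (aSec b C) (Units.ext ?_))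
  exact (ha C f hf).symm.trans hv

/-- Over an affine base the double-duality map is injective. -/
theorem eq_zero_of_bidual (s : (Gas).obj.obj (op (top b)))
    (hs : (CGrpSh2.toDoubleDual Scheme.fppfPrecoverage Gas).hom.app (op (top b)) s = 0) : s = 0 := by
  obtain ⟨a, ha⟩ := exists_gaP b A s.down.toMul
  have hs2 : s = ptSec (gaP b A a) := by rw [ha]; rfl
  have h := bidual_chi b a (C := DualNumber A) (Theta.isPolyChar_tang (A := A))
  rw [← hs2, hs] at h
  have h1 : aSec b (DualNumber A) 1 = 0 := add_right_cancel (b := aSec b (DualNumber A) 1) (by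
    rw [zero_add, ← aSec_mul, one_mul])
  have h2 := congrArg (fun v : (DualNumber A)ˣ => TrivSqZeroExt.snd v.val) ((aSec_bijective b _).1 (h1.trans h))
  simp [Theta.tang, TrivSqZeroExt.algebraMap_eq_inl] at h2
  rw [hs2, show a = 0 from h2.symm, gaP_zero]
  rfl

end GaBidualLib

namespace GaBidualLib

variable {S : Scheme.{u}}

local notation "Jf" => QuotSh.J Scheme.fppfPrecoverage S
local notation "Gas" => CGrpSh2.Ga Scheme.fppfPrecoverage S

/-- The double-duality map of the additive group is an isomorphism when natural functions are evaluations. -/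
theorem isIso_toDoubleDual_Ga
    (halg : ∀ (A : CommRingCat.{u}) (_ : Spec A ⟶ S) (Θ : Theta A), ∃ a : A,
      ∀ (C : Type u) [CommRing C] [Algebra A C] (f : Polynomial C),
        IsPolyChar f → Θ.app C f = f.eval (algebraMap A C a)) :
    IsIso (CGrpSh2.toDoubleDual Scheme.fppfPrecoverage Gas) := by
  set τ := CGrpSh2.toDoubleDual Scheme.fppfPrecoverage Gas with hτ
  haveI : Sheaf.IsLocallySurjective τ := ⟨fun {U} θ => by
    refine GrothendieckTopology.superset_covering _ ?_ (affine_cover_mem U)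
    rw [Sieve.ofArrows, Sieve.generate_le_iff]
    rintro _ _ ⟨x⟩
    exact exists_preimage (U.left.affineCover.f x ≫ U.hom) (halg _ (U.left.affineCover.f x ≫ U.hom)) _⟩
  haveI : Mono τ := by
    refine (sheafToPresheaf _ _).mono_of_mono_map ?_
    refine (NatTrans.mono_iff_mono_app _).2 fun U => (AddCommGrpCat.mono_iff_injective _).2
      ((injective_iff_map_eq_zero _).2 fun s hs => ?_)
    refine eq_of_cover Gas _ (affine_cover_mem U.unop) fun x => ?_
    refine Eq.trans (eq_zero_of_bidual _ _ ?_) (map_zero _).symm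
    exact ((NatTrans.naturality_apply τ.hom _ s).trans ((congrArg _ hs).trans (map_zero _)))
  haveI : Epi τ := (Sheaf.isLocallySurjective_iff_epi' AddCommGrpCat.{u + 1} τ).1 inferInstance
  exact isIso_of_mono_of_epi τ

end GaBidualLib
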